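import Mathlib
import Cfsg.Agent.Lib.AbelianStar.Trace

/-!
# The regular matrix of a block with abelian defect group at a central element

If the subsections outside a central cyclic subgroup `<z>` of the defect group have rank one, the
regular matrix of the block has all its minors divisible by `p ^ d / |z|`.
-/

set_option autoImplicit false
set_option linter.unusedSectionVars false

namespace Cfsg.Agent.Lib.DefectBound

open Cfsg
open Cfsg.Agent.Lib
open Cfsg.Agent.Lib.BrauerPairs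
open Cfsg.Agent.Lib.AbelianStar
open Cfsg.Agent.Lib.NilBlock (bu con coef)
open Cfsg.Agent.Lib.BrauerFeit (regCoef)
open scoped ComplexConjugate

universe u

attribute [local instance] Classical.propDecidable

variable {G : Type u} [Group G] [Fintype G] {p : ℕ} {M : Ideal AlgInt} [Fact p.Prime] [M.IsPrime]
  {B : Set (IrrCharacter G)} {b : BrauerPairIdx G}
  (hM : IsPModular p M) (hmax : IsMaximalBrauerPair p M B b.1 b.2)
  (hab : ∀ x ∈ b.1, ∀ y ∈ b.1, x * y = y * x)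

include hM hmax hab in
/-- The form of a central element. -/
theorem frm_central (w : b.1) (hc : (w : G) ∈ Subgroup.center G) {χ : IrrCharacter G} (hχ : χ ∈ B)
    (ψ : IrrCharacter G) :
    frm p M b w χ ψ = (χ : G → ℂ) w / (χ : G → ℂ) 1 *
      conj ((ψ : G → ℂ) w / (ψ : G → ℂ) 1) * regCoef p χ ψ := by
  have horb : orb b w = {w} := Finset.eq_singleton_iff_unique_mem.2 ⟨self_mem_orb hmax w, fun v hv => by
    obtain ⟨y, -, hyv⟩ := mem_orb.1 hv
    refine Subtype.ext ?_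
    rw [← hyv, Subgroup.mem_center_iff.1 hc y, mul_inv_cancel_right]⟩
  have h := NilBlock.wt_of_mem_center hM hmax w.2 hc hχ ψ
  have htop : Subgroup.centralizer ({(w : G)} : Set G) = ⊤ := (Subgroup.eq_top_iff' _).2 fun g =>
    Subgroup.mem_centralizer_singleton_iff.2 (Subgroup.mem_center_iff.1 hc g)
  rw [NilBlock.wt, htop, show (b.1 ⊓ (⊤ : Subgroup G)) = b.1 from inf_top_eq _] at h
  rw [frm, horb, Finset.card_singleton, Nat.cast_one, inv_one, one_mul]
  refine mul_left_cancel₀ (Chars.natCard_ne_zero (G := b.1)) (h.trans ?_)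
  ring

include hM hmax hab in
/-- Subsections of rank one have forms of rank one. -/
theorem frm_minor_eq_zero (w : b.1) (hr : blockRank p (bu p M b (w : G)).2 = 1)
    (ξ₁ ξ₂ ξ₃ ξ₄ : IrrCharacter G) :
    frm p M b w ξ₁ ξ₃ * frm p M b w ξ₂ ξ₄ = frm p M b w ξ₁ ξ₄ * frm p M b w ξ₂ ξ₃ := by
  obtain ⟨j, hj⟩ := NilBlock.exists_orderOf_eq hM hmax w.2
  obtain ⟨l, Q, A, X, hl, -, -, -, -, -, -, hform, -⟩ :=
    Contrib.exists_columns hM hj (NilBlock.centralizer_bu (w : G))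
      (NilBlock.isInducedBlock_bu hM hmax w.2)
  rw [hr] at hl
  subst hl
  have h := fun χ ψ => hform 1 (Fact.out : p.Prime).not_dvd_one χ ψ
  simp only [pow_one, Fin.sum_univ_one] at h
  set D : ℂ := (p : ℂ) ^ blockDefect p (bu p M b (w : G)).2 with hD
  have hD0 : D ≠ 0 := pow_ne_zero _ (Nat.cast_ne_zero.2 hM.1.ne_zero)
  have hf : ∀ χ ψ, frm p M b w χ ψ =
      ((orb b w).card : ℂ)⁻¹ * (D⁻¹ * (X χ 0 1 * (Q 0 0 : ℂ) * conj (X ψ 0 1))) := fun χ ψ => by
    rw [← h χ ψ, frm, con, inv_mul_cancel_left₀ hD0]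
  simp only [hf]
  ring

/-- The values of a linear character, and of the orbit sum under the inertial automorphisms. -/
noncomputable def orbitSum {b : BrauerPairIdx G} (A : Subgroup (MulAut b.1)) [Fintype A]
    (l : b.1 →* ℂˣ) (w : b.1) : ℂ :=
  ∑ α : A, (l ((α : MulAut b.1) w) : ℂ)

include hM hmax hab in
/-- The pairing with any linear character is integral up to the order of the inertial quotient. -/
theorem exists_int_sum_hom_mul (l : b.1 →* ℂˣ) {χ : IrrCharacter G} (hχ : χ ∈ B)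
    (ψ : IrrCharacter G) :
    ∃ n : ℤ, (Nat.card (autInducedBy (pairStab hmax.1.1.2) b.1) : ℂ) *
      ∑ w : b.1, (l w : ℂ) * frm p M b w χ ψ = n := by
  set A := autInducedBy (pairStab hmax.1.1.2) b.1 with hA
  haveI : Finite (MulAut b.1) := Finite.of_injective _ DFunLike.coe_injective
  haveI := Fintype.ofFinite A
  have hmem : ∀ y, InStab b y → ∃ α : A, ∀ x : b.1,
      (((α : MulAut b.1) x : b.1) : G) = y * (x : G) * y⁻¹ := fun y hy =>
    ⟨⟨Fusion.conjAut b.1 y ((mem_pairStab_iff hmax.1.1.2).1 hy).1, Fusion.mem_autInducedBy.2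
      ⟨y, hy, fun x => rfl⟩⟩, fun x => rfl⟩
  have hinv : IsInv b (orbitSum A l) := by
    intro y hy w v h
    obtain ⟨α, hα⟩ := hmem y hy
    have hv : v = (α : MulAut b.1) w := Subtype.ext ((hα w).trans h).symm
    rw [hv, orbitSum, orbitSum]
    exact Fintype.sum_equiv (Equiv.mulRight α) _ _ fun β => rfl
  have hchar : IsCharacter b.1 (orbitSum A l) := by
    convert Chars.isCharacter_sum (Finset.univ : Finset A)
      (fun α _ => Chars.isCharacter_hom (l.comp (α : MulAut b.1).toMonoidHom)) using 1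
    funext w
    simp [orbitSum]
  obtain ⟨n, hn⟩ : ∃ n : ℤ, ∑ w : b.1, orbitSum A l w * frm p M b w χ ψ = n := by
    rw [← classInner_star hM hmax hab hinv hχ ψ]
    exact Chars.isGeneralizedCharacter_classInner_int
      (isGeneralizedCharacter_star hM hmax hab hchar hinv (Chars.irr_isCharacter χ))
      (Chars.isGeneralizedCharacter_of_isCharacter (Chars.irr_isCharacter ψ))
  refine ⟨n, hn ▸ ?_⟩
  simp only [orbitSum, Finset.sum_mul]
  rw [Finset.sum_comm, ← Fintype.card_eq_nat_card, Fintype.card_eq_sum_ones, Nat.cast_sum,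
    Finset.sum_mul]
  refine Finset.sum_congr rfl fun α _ => ?_
  rw [Nat.cast_one, one_mul]
  symm
  refine Fintype.sum_equiv (α : MulAut b.1).toEquiv _ _ fun w => ?_
  show (l ((α : MulAut b.1) w) : ℂ) * frm p M b w χ ψ =
    (l ((α : MulAut b.1) w) : ℂ) * frm p M b ((α : MulAut b.1) w) χ ψ
  obtain ⟨g, hg, hga⟩ := Fusion.mem_autInducedBy.1 α.2
  rw [frm_of_mem_orb hM hmax (mem_orb.2 ⟨g, hg, (hga w).symm⟩)]

include hM hmax hab in
/-- The pairing of two forms with a linear character. -/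
theorem exists_int_sum_mul (l : b.1 →* ℂˣ) {χ₁ χ₂ : IrrCharacter G} (h₁ : χ₁ ∈ B) (h₂ : χ₂ ∈ B)
    (ψ₁ ψ₂ : IrrCharacter G) :
    ∃ n : ℤ, (Nat.card b.1 : ℂ) * (Nat.card (autInducedBy (pairStab hmax.1.1.2) b.1) : ℂ) ^ 2 *
      ∑ w : b.1, (l w : ℂ) * (frm p M b w χ₁ ψ₁ * frm p M b w χ₂ ψ₂) = n := by
  letI : CommGroup b.1 :=
    { (inferInstance : Group b.1) with mul_comm := fun x y => Subtype.ext (hab _ x.2 _ y.2) }
  haveI : Finite (b.1 →* ℂˣ) := Finite.of_injective _ Chars.linIrr_injective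
  haveI := Fintype.ofFinite (b.1 →* ℂˣ)
  set m : ℂ := (Nat.card (autInducedBy (pairStab hmax.1.1.2) b.1) : ℂ)
  choose n₁ hn₁ using fun μ : b.1 →* ℂˣ => exists_int_sum_hom_mul hM hmax hab (l * μ) h₁ ψ₁
  choose n₂ hn₂ using fun μ : b.1 →* ℂˣ => exists_int_sum_hom_mul hM hmax hab μ⁻¹ h₂ ψ₂
  refine ⟨∑ μ, n₁ μ * n₂ μ, ?_⟩
  push_cast
  simp only [← hn₁, ← hn₂, MonoidHom.mul_apply, MonoidHom.inv_apply, Units.val_mul]
  symm
  calc ∑ μ : b.1 →* ℂˣ, m * (∑ v : b.1, (l v : ℂ) * (μ v : ℂ) * frm p M b v χ₁ ψ₁) *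
        (m * ∑ w : b.1, (((μ w)⁻¹ : ℂˣ) : ℂ) * frm p M b w χ₂ ψ₂)
      = ∑ v : b.1, ∑ w : b.1, m ^ 2 * ((l v : ℂ) * frm p M b v χ₁ ψ₁ * frm p M b w χ₂ ψ₂) *
          ∑ μ : b.1 →* ℂˣ, (μ (v * w⁻¹) : ℂ) := by
        simp only [Finset.mul_sum, Finset.sum_mul]
        rw [Finset.sum_comm]
        conv_rhs => rw [Finset.sum_comm]
        refine Finset.sum_congr rfl fun w _ => ?_
        rw [Finset.sum_comm]
        refine Finset.sum_congr rfl fun v _ => Finset.sum_congr rfl fun μ _ => ?_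
        rw [map_mul, Units.val_mul, map_inv]
        ring
    _ = _ := by
        rw [Finset.mul_sum]
        refine Finset.sum_congr rfl fun v _ => ?_
        rw [Finset.sum_eq_single v (fun w _ hw => ?_) (by simp)]
        · rw [sum_monoidHom_units, if_pos (mul_inv_cancel v)]
          ring
        · rw [sum_monoidHom_units, if_neg fun h => hw (mul_inv_eq_one.1 h).symm, mul_zero]

include hM hmax hab in
/-- The minors of the regular matrix. -/
theorem dvd_minor {z : G} {j : ℕ} (hz : orderOf z = p ^ j) (hzb : z ∈ b.1)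
    (hzc : z ∈ Subgroup.center G)
    (hfree : ∀ v : b.1, (v : G) ∉ Subgroup.zpowers z → blockRank p (bu p M b (v : G)).2 = 1)
    {ξ₁ ξ₂ ξ₃ ξ₄ : IrrCharacter G} (h₁ : ξ₁ ∈ B) (h₂ : ξ₂ ∈ B) {n₁₃ n₂₄ n₁₄ n₂₃ : ℤ}
    (e₁₃ : (p : ℂ) ^ blockDefect p B * regCoef p ξ₁ ξ₃ = n₁₃)
    (e₂₄ : (p : ℂ) ^ blockDefect p B * regCoef p ξ₂ ξ₄ = n₂₄)
    (e₁₄ : (p : ℂ) ^ blockDefect p B * regCoef p ξ₁ ξ₄ = n₁₄)
    (e₂₃ : (p : ℂ) ^ blockDefect p B * regCoef p ξ₂ ξ₃ = n₂₃) :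
    (p : ℤ) ^ (blockDefect p B - j) ∣ n₁₃ * n₂₄ - n₁₄ * n₂₃ := by
  have hp : p.Prime := Fact.out
  letI : CommGroup b.1 :=
    { (inferInstance : Group b.1) with mul_comm := fun x y => Subtype.ext (hab _ x.2 _ y.2) }
  set zb : b.1 := ⟨z, hzb⟩
  set Z := Subgroup.zpowers zb with hZ
  have hzo : orderOf zb = p ^ j := by rw [← Subgroup.orderOf_coe]; exact hz
  set d := blockDefect p B
  have hjd : j ≤ d := (Nat.pow_dvd_pow_iff_le_right hp.one_lt).1 (by
    rw [← hzo, ← NilBlock.card_eq hM hmax]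
    exact orderOf_dvd_natCard zb)
  let ω : IrrCharacter G → ℂ := fun φ => (φ : G → ℂ) z / (φ : G → ℂ) 1
  have hval : ∀ (φ : IrrCharacter G) (i : ℕ), (φ : G → ℂ) (z ^ i) / (φ : G → ℂ) 1 = ω φ ^ i := by
    intro φ i
    rw [div_eq_iff (Chars.irr_apply_one_ne_zero φ)]
    induction i with
    | zero => simp
    | succ i ih =>
      rw [pow_succ z i, Blocks.CentralKernel.irr_mul_central φ hzc, ih, pow_succ]
      ring
  have hω : ∀ φ, ω φ ^ p ^ j = 1 := fun φ => by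
    rw [← hval, ← hz, pow_orderOf_eq_one, div_self (Chars.irr_apply_one_ne_zero φ)]
  set Ω : ℂ := ω ξ₁ * ω ξ₂ * conj (ω ξ₃) * conj (ω ξ₄) with hΩ
  have hΩpow : Ω ^ p ^ j = 1 := by
    rw [hΩ]
    simp only [mul_pow, ← map_pow, hω, map_one, mul_one]
  let Ωu : ℂˣ := (Units.ofPowEqOne Ω (p ^ j) hΩpow (pow_ne_zero j hp.ne_zero))⁻¹
  have hΩu : orderOf Ωu ∣ orderOf (⟨zb, Subgroup.mem_zpowers zb⟩ : Z) := by
    rw [Subgroup.orderOf_mk, hzo]
    refine orderOf_dvd_of_pow_eq_one (Units.ext ?_)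
    simp [Ωu, inv_pow, Units.val_inv_eq_inv_val, hΩpow]
  let μ : Z →* ℂˣ := monoidHomOfForallMemZpowers (g := ⟨zb, Subgroup.mem_zpowers zb⟩)
    (fun x => by
      obtain ⟨k, hk⟩ := x.2
      exact ⟨k, Subtype.ext hk⟩) hΩu
  haveI : Finite (b.1 →* ℂˣ) := Finite.of_injective _ Chars.linIrr_injective
  have : HasEnoughRootsOfUnity ℂ (Monoid.exponent b.1) := inferInstance
  obtain ⟨l, hl⟩ := MonoidHom.domRestrict_surjective (M := ℂ) Z μ
  have hlz : (l zb : ℂ) * Ω = 1 := by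
    have h := DFunLike.congr_fun hl ⟨zb, Subgroup.mem_zpowers zb⟩
    rw [MonoidHom.domRestrictHom_apply, MonoidHom.domRestrict_apply] at h
    rw [show l zb = Ωu from h.trans (monoidHomOfForallMemZpowers_apply_gen _ hΩu)]
    have hΩ0 : Ω ≠ 0 := fun h0 => by simp [h0, zero_pow (pow_ne_zero j hp.ne_zero)] at hΩpow
    simp [Ωu, Units.val_inv_eq_inv_val, inv_mul_cancel₀ hΩ0]
  set c : ℂ := regCoef p ξ₁ ξ₃ * regCoef p ξ₂ ξ₄ - regCoef p ξ₁ ξ₄ * regCoef p ξ₂ ξ₃ with hc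
  obtain ⟨n, hn⟩ := exists_int_sum_mul hM hmax hab l h₁ h₂ ξ₃ ξ₄
  obtain ⟨n', hn'⟩ := exists_int_sum_mul hM hmax hab l h₁ h₂ ξ₄ ξ₃
  set m := Nat.card (autInducedBy (pairStab hmax.1.1.2) b.1) with hm
  have hterm : ∀ v : b.1, (l v : ℂ) *
      (frm p M b v ξ₁ ξ₃ * frm p M b v ξ₂ ξ₄ - frm p M b v ξ₁ ξ₄ * frm p M b v ξ₂ ξ₃) =
      if v ∈ Z then c else 0 := by
    intro v
    split_ifs with hv
    · obtain ⟨i, rfl⟩ := (mem_powers_iff_mem_zpowers (x := zb) (y := v)).2 hv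
      have hvc : ((zb ^ i : b.1) : G) ∈ Subgroup.center G := by
        rw [SubmonoidClass.coe_pow]; exact pow_mem hzc i
      simp only [frm_central hM hmax hab _ hvc h₁, frm_central hM hmax hab _ hvc h₂,
        SubmonoidClass.coe_pow, show (zb : G) = z from rfl, hval, map_pow, Units.val_pow_eq_pow_val]
      have h1 : ((l zb : ℂ)) ^ i * Ω ^ i = 1 := by rw [← mul_pow, hlz, one_pow]
      rw [hΩ, mul_pow, mul_pow, mul_pow] at h1
      rw [hc]
      linear_combination (regCoef p ξ₁ ξ₃ * regCoef p ξ₂ ξ₄ - regCoef p ξ₁ ξ₄ * regCoef p ξ₂ ξ₃) * h1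
    · rw [frm_minor_eq_zero hM hmax hab v (hfree v fun h => hv ?_), sub_self, mul_zero]
      obtain ⟨k, hk⟩ := h
      exact ⟨k, Subtype.ext ((SubgroupClass.coe_zpow zb k).trans hk)⟩
  have hsum : ∑ v : b.1, (l v : ℂ) *
      (frm p M b v ξ₁ ξ₃ * frm p M b v ξ₂ ξ₄ - frm p M b v ξ₁ ξ₄ * frm p M b v ξ₂ ξ₃) =
        (p : ℂ) ^ j * c := by
    rw [Finset.sum_congr rfl fun v _ => hterm v, ← Finset.sum_filter, Finset.sum_const,
      nsmul_eq_mul]
    congr 1
    have : (Finset.univ.filter (fun v => v ∈ Z)).card = p ^ j := by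
      rw [← hzo, ← Nat.card_zpowers, Nat.card_eq_fintype_card, Fintype.card_subtype]
    rw [this, Nat.cast_pow]
  simp only [mul_sub, Finset.sum_sub_distrib] at hsum
  have hpd : (p : ℂ) ^ d ≠ 0 := pow_ne_zero _ (Nat.cast_ne_zero.2 hp.ne_zero)
  have heq : (((m : ℤ) ^ 2 * (n₁₃ * n₂₄ - n₁₄ * n₂₃) : ℤ) : ℂ) =
      (((p : ℤ) ^ (d - j) * (n - n') : ℤ) : ℂ) := by
    push_cast
    rw [← e₁₃, ← e₂₄, ← e₁₄, ← e₂₃, ← hn, ← hn', ← mul_sub, hsum,
      NilBlock.card_eq hM hmax, Nat.cast_pow, hc]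
    have hsplit : (p : ℂ) ^ d = (p : ℂ) ^ (d - j) * (p : ℂ) ^ j := by
      rw [← pow_add, Nat.sub_add_cancel hjd]
    rw [hsplit]
    ring
  refine IsCoprime.dvd_of_dvd_mul_left ?_ ⟨n - n', by exact_mod_cast heq⟩
  exact IsCoprime.pow ((Nat.prime_iff_prime_int.1 hp).coprime_iff_not_dvd.2 fun h =>
    not_dvd_card_aut hM hmax hab (Int.natCast_dvd_natCast.1 h))

end Cfsg.Agent.Lib.DefectBound
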