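import Mathlib
import Cfsg.Agent.Lib.Contrib.Cyclotomic
import Cfsg.Agent.Lib.GaloisPos.Basic
import Cfsg.Agent.Lib.BrauerFeit.RegularPart

/-!
# Mean squares of cyclic functions

A cyclic function whose values are divisible by `p ^ m` has mean square at least `p ^ (2 m)`; a
vector of cyclic functions has mean value under an integral form at least the minimum of the form.
-/

set_option autoImplicit false

namespace Cfsg.Agent.Lib.DefectBound

open Cfsg Polynomial
open Cfsg.Agent.Lib
open Cfsg.Agent.Lib.Blocks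
open Cfsg.Agent.Lib.Contrib
open scoped ComplexConjugate

variable {p k : ℕ} {ζ : ℂ} {M : Ideal AlgInt}

theorem pow_le_sum_norm_sq_of_dvd [Fact p.Prime] [M.IsPrime] (hM : IsPModular p M) (hk : 0 < k)
    (hζ : IsPrimitiveRoot ζ (p ^ k)) {F : ℕ → ℂ} (h : IsCyc ζ F) (h1 : F 1 ≠ 0) (m : ℕ)
    (hdiv : ∀ t ∈ primResidues p k, MemLocalRing M (F t / (p : ℂ) ^ m)) :
    ((primResidues p k).card : ℝ) * (p : ℝ) ^ (2 * m) ≤ ∑ t ∈ primResidues p k, ‖F t‖ ^ 2 := by
  classical
  have hp := hM.1
  set U := primResidues p k with hU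
  obtain ⟨P, hP⟩ := h
  have hn : 0 < p ^ k := pow_pos hp.pos k
  have hUt : ∀ t ∈ U, t < p ^ k ∧ ¬ p ∣ t := fun t ht =>
    ⟨Finset.mem_range.1 (Finset.mem_filter.1 ht).1, (Finset.mem_filter.1 ht).2⟩
  have hint : ∀ t, IsIntegral ℤ (ζ ^ t) := fun t => (hζ.isIntegral hn).pow t
  have hne : ∀ t ∈ U, F t ≠ 0 := by
    intro t ht h0
    refine h1 ?_
    rw [hP t] at h0
    obtain ⟨R, hR⟩ := minpoly.isIntegrallyClosed_dvd (hint t) h0
    rw [hP 1, hR, ← hζ.minpoly_eq_pow_coprime (Nat.Coprime.pow_right k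
      (hp.coprime_iff_not_dvd.2 (hUt t ht).2).symm), pow_one, map_mul, minpoly.aeval, zero_mul]
  let v : ℕ → GaloisPos.QBar := fun t => ⟨ζ ^ t, GaloisPos.mem_qbar_of_isIntegral (hint t)⟩
  have hv : ∀ t, ((aeval (v t) P : GaloisPos.QBar) : ℂ) = F t := fun t => by
    rw [hP t, show ((aeval (v t) P : GaloisPos.QBar) : ℂ) =
      (GaloisPos.QBar.val.restrictScalars ℤ) (aeval (v t) P) from rfl, ← aeval_algHom_apply]
    rfl
  obtain ⟨z, hz⟩ := GaloisPos.exists_int_of_fixed (∏ t ∈ U, aeval (v t) P) (by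
      rw [GaloisPos.coe_qbar_prod]
      refine IsIntegral.prod _ fun t _ => ?_
      rw [hv, hP]
      exact adjoin_le_integralClosure (R := ℤ) (hint t) (aeval_mem_adjoin_singleton ℤ _))
    (fun ψ => by
      obtain ⟨s, hs, hsμ⟩ := GaloisPos.exists_pow_action (p ^ k) hn ψ
      rw [map_prod, GaloisPos.coe_qbar_prod]
      have hψ : ∀ t ∈ U, ψ (aeval (v t) P) = F (t * s % p ^ k) := fun t _ => by
        rw [show ψ (aeval (v t) P) = (ψ.restrictScalars ℤ) (aeval (v t) P) from rfl,
          ← aeval_algHom_apply, hP]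
        refine congrArg (fun w => aeval w P) ?_
        show ψ (v t) = _
        rw [hsμ _ _ (by rw [← pow_mul, mul_comm, pow_mul, hζ.pow_eq_one, one_pow]),
          ← pow_mul, pow_eq_pow_mod (t * s) hζ.pow_eq_one]
      rw [Finset.prod_congr rfl hψ]
      simp only [hv]
      have hmaps : ∀ t ∈ U, t * s % p ^ k ∈ U := fun t ht => by
        refine Finset.mem_filter.2 ⟨Finset.mem_range.2 (Nat.mod_lt _ hn), fun hd => ?_⟩
        rw [Nat.dvd_mod_iff (dvd_pow_self p hk.ne'), hp.dvd_mul] at hd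
        rcases hd with hd | hd
        · exact (hUt t ht).2 hd
        · exact (hp.coprime_iff_not_dvd.1 ((Nat.coprime_pow_right_iff hk _ _).1 hs).symm) hd
      have hinj : Set.InjOn (fun t => t * s % p ^ k) U := fun t ht t' ht' he => by
        have h2 : t ≡ t' [MOD p ^ k] := Nat.ModEq.cancel_right_of_coprime
          (by rw [Nat.gcd_comm]; exact hs) he
        exact Nat.ModEq.eq_of_lt_of_lt h2 (hUt t ht).1 (hUt t' ht').1
      have himg : U.image (fun t => t * s % p ^ k) = U := Finset.eq_of_subset_of_card_le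
        (Finset.image_subset_iff.2 hmaps) (by rw [Finset.card_image_of_injOn hinj])
      conv_rhs => rw [← himg]
      exact (Finset.prod_image hinj).symm)
  rw [GaloisPos.coe_qbar_prod, Finset.prod_congr rfl fun t _ => hv t] at hz
  have hz0 : z ≠ 0 := fun h => Finset.prod_ne_zero_iff.2 hne (by rw [hz, h, Int.cast_zero])
  have hdvd : (p : ℤ) ^ (m * U.card) ∣ z := by
    refine BrauerFeit.int_pow_dvd_of_div_mem hM _ _ ?_
    rw [← hz, pow_mul, ← Finset.prod_const, ← Finset.prod_div_distrib]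
    exact prod_mem fun t ht => mem_localRing.2 (hdiv t ht)
  have hp0 : (0 : ℝ) < p := by exact_mod_cast hp.pos
  have habs : ((p : ℝ) ^ (2 * m)) ^ U.card ≤ ∏ t ∈ U, ‖F t‖ ^ 2 := by
    have h2 : (p : ℤ) ^ (m * U.card) ≤ |z| :=
      Int.le_of_dvd (abs_pos.2 hz0) ((dvd_abs _ _).2 hdvd)
    have h3 : ((p : ℝ) ^ (m * U.card)) ≤ |(z : ℝ)| := by exact_mod_cast h2
    rw [Finset.prod_pow, ← norm_prod, hz, Complex.norm_intCast, ← pow_mul,
      show 2 * m * U.card = (m * U.card) * 2 by ring, pow_mul]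
    exact pow_le_pow_left₀ (by positivity) h3 2
  have hcard : (0 : ℝ) < U.card := by
    exact_mod_cast Finset.card_pos.2 ⟨1, one_mem_primResidues hp hk⟩
  have hamgm := Real.geom_mean_le_arith_mean U (fun _ => (1 : ℝ)) (fun t => ‖F t‖ ^ 2)
    (fun _ _ => zero_le_one) (by simpa using hcard) (fun t _ => sq_nonneg _)
  simp only [Real.rpow_one, one_mul, Finset.sum_const, nsmul_eq_mul, mul_one] at hamgm
  have h4 := Real.rpow_le_rpow (by positivity) habs (inv_nonneg.2 hcard.le)
  rw [Real.pow_rpow_inv_natCast (by positivity) (by exact_mod_cast hcard.ne')] at h4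
  have h5 := h4.trans hamgm
  rw [le_div_iff₀ hcard] at h5
  linarith

/-- Pairs with distinct values. -/
theorem two_mul_sub_one_le_pairs {α : Type*} [DecidableEq α] (c : ℕ → α) {x y : ℕ} (hx : x < p)
    (hy : y < p) (hne : c x ≠ c y) :
    2 * ((p : ℤ) - 1) ≤ ∑ a ∈ Finset.range p, ∑ b ∈ Finset.range p,
      if c a = c b then 0 else 1 := by
  have h := sub_one_le_spread p (fun j => if c j = c x then (1 : ℤ) else 0) hx hy
    (by simp [Ne.symm hne])
  have h2 := two_mul_spread p (fun j => if c j = c x then (1 : ℤ) else 0)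
  refine le_trans (by linarith : 2 * ((p : ℤ) - 1) ≤ _) (h2.le.trans ?_)
  refine Finset.sum_le_sum fun a _ => Finset.sum_le_sum fun b _ => ?_
  by_cases hab : c a = c b
  · simp [hab]
  · rw [if_neg hab]
    split_ifs <;> norm_num

/-- The mean of a form at a vector of cyclic functions. -/
theorem card_mul_le_form {ι : Type*} [Fintype ι] {l : ℕ} (hp : p.Prime) (hk : 0 < k)
    (hζ : IsPrimitiveRoot ζ (p ^ k)) (g : ι → Fin l → ℤ) (Q : Fin l → Fin l → ℤ) {q L : ℤ}
    (hq : 0 < q) (hQsym : ∀ a c, Q a c = Q c a)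
    (hQA : ∀ a c, ∑ e, Q a e * ∑ i, g i e * g i c = if a = c then q else 0)
    (hmin : ∀ x : Fin l → ℤ, x ≠ 0 → L ≤ ∑ a, ∑ c, x a * Q a c * x c)
    (X : Fin l → ℕ → ℂ) (hX : ∀ a, IsCyc ζ (X a)) (hne : ∃ a, X a 1 ≠ 0) :
    ((primResidues p k).card : ℝ) * L ≤
      (∑ t ∈ primResidues p k, ∑ a, ∑ c, X a t * (Q a c : ℂ) * conj (X c t)).re := by
  classical
  choose co hco using fun a => (hX a).exists_coeff hp hk hζ
  set N := p ^ (k - 1) with hN
  let w : ι → Fin l → ℤ := fun i a => ∑ e, g i e * Q e a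
  have hww : ∀ a c, ∑ i, w i a * w i c = q * Q a c := by
    intro a c
    calc ∑ i, w i a * w i c = ∑ e, (∑ f, Q a f * ∑ i, g i f * g i e) * Q e c := by
          simp only [w, Finset.mul_sum, Finset.sum_mul]
          rw [Finset.sum_comm]
          refine Finset.sum_congr rfl fun e _ => ?_
          rw [Finset.sum_comm]
          exact Finset.sum_congr rfl fun f _ => Finset.sum_congr rfl fun i _ => by
            rw [hQsym f a]; ring
      _ = q * Q a c := by simp [hQA]
  let Fi : ι → ℕ → ℂ := fun i t => ∑ a, (w i a : ℂ) * X a t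
  let ci : ι → ℕ → ℕ → ℤ := fun i r j => ∑ a, w i a * co a r j
  have hFi : ∀ i t, Fi i t = ∑ r ∈ Finset.range (p ^ (k - 1)), ∑ j ∈ Finset.range p,
      (ci i r j : ℂ) * (ζ ^ (r + p ^ (k - 1) * j)) ^ t := by
    intro i t
    simp only [Fi, ci, hco _ t, Finset.mul_sum, Int.cast_sum, Int.cast_mul, Finset.sum_mul]
    rw [Finset.sum_comm]
    refine Finset.sum_congr rfl fun r _ => ?_
    rw [Finset.sum_comm]
    exact Finset.sum_congr rfl fun j _ => Finset.sum_congr rfl fun a _ => by ring
  have hsq : ∀ t, (∑ i, ‖Fi i t‖ ^ 2 : ℝ) =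
      q * (∑ a, ∑ c, X a t * (Q a c : ℂ) * conj (X c t)).re := by
    intro t
    have h : ((∑ i, ‖Fi i t‖ ^ 2 : ℝ) : ℂ) =
        (q : ℂ) * ∑ a, ∑ c, X a t * (Q a c : ℂ) * conj (X c t) := by
      push_cast
      simp only [← Complex.ofReal_pow, ← Complex.normSq_eq_norm_sq, ← Complex.mul_conj, Fi, map_sum,
        map_mul, map_intCast, Finset.sum_mul_sum]
      rw [Finset.sum_comm, Finset.mul_sum]
      refine Finset.sum_congr rfl fun a _ => ?_
      rw [Finset.sum_comm, Finset.mul_sum]
      refine Finset.sum_congr rfl fun c _ => ?_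
      have := congrArg (fun n : ℤ => (n : ℂ)) (hww a c)
      push_cast at this
      rw [show (q : ℂ) * (X a t * (Q a c : ℂ) * conj (X c t)) =
        X a t * conj (X c t) * ((q : ℂ) * (Q a c : ℂ)) by ring, ← this, Finset.mul_sum]
      exact Finset.sum_congr rfl fun i _ => by ring
    have h2 := congrArg Complex.re h
    rw [Complex.ofReal_re, show ((q : ℂ)) = ((q : ℝ) : ℂ) by push_cast; rfl,
      Complex.re_ofReal_mul] at h2
    exact h2
  have hsum : (q : ℝ) * (∑ t ∈ primResidues p k, ∑ a, ∑ c,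
      X a t * (Q a c : ℂ) * conj (X c t)).re =
      (p : ℝ) ^ (k - 1) * ((∑ r ∈ Finset.range N, ∑ i, spread p (ci i r) : ℤ) : ℝ) := by
    rw [Complex.re_sum, Finset.mul_sum, ← Finset.sum_congr rfl fun t _ => hsq t, Finset.sum_comm,
      Finset.sum_congr rfl fun i _ => sum_norm_sq (hFi i) hp hk hζ, ← Finset.mul_sum,
      ← Int.cast_sum, Finset.sum_comm]
  -- a nonconstant class of coefficients
  obtain ⟨a₀, ha₀⟩ := hne
  obtain ⟨r, hr, x, hx, y, hy, hxy⟩ : ∃ r < N, ∃ x < p, ∃ y < p, co a₀ r x ≠ co a₀ r y := by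
    by_contra hno
    push Not at hno
    exact ha₀ (apply_eq_zero_of_const (hco a₀) hp hk hζ hp.not_dvd_one hno)
  have hspread : 2 * (q * L * ((p : ℤ) - 1)) ≤ 2 * ∑ i, spread p (ci i r) := by
    have he : 2 * ∑ i, spread p (ci i r) = q * ∑ u ∈ Finset.range p, ∑ v ∈ Finset.range p,
        ∑ a, ∑ c, (co a r u - co a r v) * Q a c * (co c r u - co c r v) := by
      simp only [Finset.mul_sum, two_mul_spread, ci]
      rw [Finset.sum_comm]
      refine Finset.sum_congr rfl fun u _ => ?_
      rw [Finset.sum_comm]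
      refine Finset.sum_congr rfl fun v _ => ?_
      simp only [← Finset.sum_sub_distrib, ← mul_sub, sq, Finset.sum_mul_sum]
      rw [Finset.sum_comm]
      refine Finset.sum_congr rfl fun a _ => ?_
      rw [Finset.sum_comm]
      refine Finset.sum_congr rfl fun c _ => ?_
      rw [show q * ((co a r u - co a r v) * Q a c * (co c r u - co c r v)) =
        (co a r u - co a r v) * (co c r u - co c r v) * (q * Q a c) by ring, ← hww, Finset.mul_sum]
      exact Finset.sum_congr rfl fun i _ => by ring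
    rw [he]
    rcases le_or_gt L 0 with hL | hL
    · have : 0 ≤ 2 * ∑ i, spread p (ci i r) :=
        mul_nonneg (by norm_num) (Finset.sum_nonneg fun i _ => spread_nonneg _ _)
      rw [he] at this
      have h1 : (0 : ℤ) ≤ (p : ℤ) - 1 := by have := hp.one_lt; omega
      have h2 : q * L ≤ 0 := mul_nonpos_of_nonneg_of_nonpos hq.le hL
      nlinarith
    calc 2 * (q * L * ((p : ℤ) - 1)) = q * (L * (2 * ((p : ℤ) - 1))) := by ring
      _ ≤ q * (L * ∑ u ∈ Finset.range p, ∑ v ∈ Finset.range p,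
            if (fun a => co a r u) = (fun a => co a r v) then 0 else 1) :=
          mul_le_mul_of_nonneg_left (mul_le_mul_of_nonneg_left
            (two_mul_sub_one_le_pairs (fun u a => co a r u) hx hy
              (fun h => hxy (congrFun h a₀))) hL.le) hq.le
      _ ≤ _ := by
          refine mul_le_mul_of_nonneg_left ?_ hq.le
          rw [Finset.mul_sum]
          refine Finset.sum_le_sum fun u _ => ?_
          rw [Finset.mul_sum]
          refine Finset.sum_le_sum fun v _ => ?_
          split_ifs with h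
          · simp [show ∀ a, co a r u = co a r v from fun a => congrFun h a]
          · rw [mul_one]
            exact hmin (fun a => co a r u - co a r v)
              fun h0 => h (funext fun a => sub_eq_zero.1 (congrFun h0 a))
  have htot : (p : ℤ) ^ (k - 1) * (q * L * ((p : ℤ) - 1)) ≤
      (p : ℤ) ^ (k - 1) * ∑ r ∈ Finset.range N, ∑ i, spread p (ci i r) :=
    mul_le_mul_of_nonneg_left ((Int.le_of_mul_le_mul_left hspread two_pos).trans
      (Finset.single_le_sum (f := fun r => ∑ i, spread p (ci i r))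
        (fun r _ => Finset.sum_nonneg fun i _ => spread_nonneg _ _) (Finset.mem_range.2 hr)))
      (by positivity)
  have htot' := (Int.cast_le (R := ℝ)).2 htot
  push_cast at htot' hsum
  rw [← hsum] at htot'
  rw [card_primResidues hp hk, Nat.cast_mul, Nat.cast_pow, Nat.cast_sub hp.one_le, Nat.cast_one]
  have hqR : (0 : ℝ) < q := by exact_mod_cast hq
  exact le_of_mul_le_mul_left (le_trans (le_of_eq (by ring)) htot') hqR

end Cfsg.Agent.Lib.DefectBound
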