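import Mathlib

/-!
# A lower bound for the form inverse to the Gram matrix of integral rows

If the rows of an integral matrix have Gram matrix of determinant at most `q` and no row is
independent of the others, then `q` times the inverse Gram matrix is at least `l` at every
nonzero integral vector, where `l` is the number of columns.
-/

set_option autoImplicit false

namespace Cfsg.Agent.Lib.DefectBound

open Matrix
open scoped ComplexOrder

theorem one_add_sum_le_prod_one_add {α : Type*} (s : Finset α) (c : α → ℝ)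
    (hc : ∀ i ∈ s, 0 ≤ c i) : 1 + ∑ i ∈ s, c i ≤ ∏ i ∈ s, (1 + c i) := by
  classical
  induction s using Finset.induction_on with
  | empty => simp
  | insert a s ha ih =>
    rw [Finset.sum_insert ha, Finset.prod_insert ha]
    have h := ih fun i hi => hc i (Finset.mem_insert_of_mem hi)
    have h0 : 0 ≤ c a := hc a (Finset.mem_insert_self _ _)
    have h1 : 0 ≤ ∑ i ∈ s, c i := Finset.sum_nonneg fun i hi => hc i (Finset.mem_insert_of_mem hi)
    nlinarith

theorem quad_diagonal {m : Type*} [Fintype m] [DecidableEq m] (U : Matrix m m ℝ) (c x : m → ℝ) :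
    x ⬝ᵥ ((U * diagonal c * Uᵀ) *ᵥ x) = ∑ i, c i * ((Uᵀ *ᵥ x) i) ^ 2 := by
  rw [← mulVec_mulVec, ← mulVec_mulVec, dotProduct_mulVec, ← mulVec_transpose, dotProduct]
  refine Finset.sum_congr rfl fun i _ => ?_
  rw [mulVec_diagonal]
  ring

/-- The adjugate of `1 + Wᵀ W` dominates `(1 + tr) - Wᵀ W`. -/
theorem det_mul_inv_ge {S m : Type*} [Fintype S] [Fintype m] [DecidableEq m]
    (W : Matrix S m ℝ) (x : m → ℝ) :
    (1 + ∑ j, ∑ f, W j f ^ 2) * (x ⬝ᵥ x) - ∑ j, ((W *ᵥ x) j) ^ 2 ≤
      (1 + Wᵀ * W).det * (x ⬝ᵥ ((1 + Wᵀ * W)⁻¹ *ᵥ x)) := by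
  classical
  have hps : (Wᵀ * W).PosSemidef := by
    rw [← conjTranspose_eq_transpose_of_trivial]
    exact posSemidef_conjTranspose_mul_self W
  have hH := hps.1
  set U : Matrix m m ℝ := (hH.eigenvectorUnitary : Matrix m m ℝ) with hU
  set ev := hH.eigenvalues with hev
  have hUU : U * Uᵀ = 1 := by
    rw [← conjTranspose_eq_transpose_of_trivial, ← star_eq_conjTranspose]
    exact Unitary.mul_star_self_of_mem hH.eigenvectorUnitary.2
  have hUU' : Uᵀ * U = 1 := by
    rw [← conjTranspose_eq_transpose_of_trivial, ← star_eq_conjTranspose]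
    exact Unitary.star_mul_self_of_mem hH.eigenvectorUnitary.2
  have hP : Wᵀ * W = U * diagonal ev * Uᵀ := by
    have h := hH.spectral_theorem
    rw [Unitary.conjStarAlgAut_apply, star_eq_conjTranspose,
      conjTranspose_eq_transpose_of_trivial] at h
    simpa [Function.comp_def] using h
  have hM : (1 : Matrix m m ℝ) + Wᵀ * W = U * diagonal (fun i => 1 + ev i) * Uᵀ := by
    have h1 : (diagonal fun i => 1 + ev i) = (1 : Matrix m m ℝ) + diagonal ev := by
      rw [← diagonal_one, diagonal_add]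
    rw [hP, h1, mul_add, add_mul, mul_one, hUU]
  have hev0 : ∀ i, 0 ≤ ev i := hps.eigenvalues_nonneg
  have hev1 : ∀ i, 1 + ev i ≠ 0 := fun i => by have := hev0 i; positivity
  have hinv : ((1 : Matrix m m ℝ) + Wᵀ * W)⁻¹ = U * diagonal (fun i => (1 + ev i)⁻¹) * Uᵀ := by
    refine inv_eq_right_inv ?_
    rw [hM]
    calc U * diagonal (fun i => 1 + ev i) * Uᵀ * (U * diagonal (fun i => (1 + ev i)⁻¹) * Uᵀ)
        = U * diagonal (fun i => 1 + ev i) * (Uᵀ * U) * diagonal (fun i => (1 + ev i)⁻¹) * Uᵀ := by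
          simp only [mul_assoc]
      _ = U * (diagonal (fun i => 1 + ev i) * diagonal (fun i => (1 + ev i)⁻¹)) * Uᵀ := by
          rw [hUU', mul_one, ← mul_assoc]
      _ = 1 := by
          rw [diagonal_mul_diagonal]
          simp [mul_inv_cancel₀ (hev1 _), hUU]
  have hdet : ((1 : Matrix m m ℝ) + Wᵀ * W).det = ∏ i, (1 + ev i) := by
    rw [hM, det_mul, det_mul, det_diagonal, mul_comm (U.det), mul_assoc, ← det_mul, hUU, det_one,
      mul_one]
  set y := Uᵀ *ᵥ x with hy
  have hxx : x ⬝ᵥ x = ∑ i, y i ^ 2 := by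
    have h := quad_diagonal U (fun _ => 1) x
    rw [diagonal_one, mul_one, hUU, one_mulVec] at h
    simpa using h
  have hWx : ∑ j, ((W *ᵥ x) j) ^ 2 = ∑ i, ev i * y i ^ 2 := by
    rw [← quad_diagonal, ← hP, ← mulVec_mulVec, dotProduct_mulVec, ← mulVec_transpose,
      transpose_transpose, dotProduct]
    exact Finset.sum_congr rfl fun j _ => sq _
  have htr : ∑ j, ∑ f, W j f ^ 2 = ∑ i, ev i := by
    have h : (Wᵀ * W).trace = ∑ i, ev i := by
      rw [hP, trace_mul_cycle, hUU', one_mul, trace_diagonal]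
    rw [← h, trace, Finset.sum_comm]
    refine Finset.sum_congr rfl fun f _ => ?_
    simp [mul_apply, sq]
  rw [hinv, quad_diagonal, hdet, hxx, hWx, htr, Finset.mul_sum, Finset.mul_sum,
    ← Finset.sum_sub_distrib]
  refine Finset.sum_le_sum fun i _ => ?_
  have hprod := one_add_sum_le_prod_one_add (Finset.univ.erase i) ev fun k _ => hev0 k
  have hs := Finset.add_sum_erase Finset.univ ev (Finset.mem_univ i)
  rw [← Finset.mul_prod_erase Finset.univ (fun k => 1 + ev k) (Finset.mem_univ i),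
    show (1 + ev i) * (∏ k ∈ Finset.univ.erase i, (1 + ev k)) * ((1 + ev i)⁻¹ * y i ^ 2) =
      (∏ k ∈ Finset.univ.erase i, (1 + ev k)) * y i ^ 2 by field_simp [hev1 i]]
  have := mul_le_mul_of_nonneg_right hprod (sq_nonneg (y i))
  nlinarith

theorem cross_le {m : Type*} [Fintype m] [DecidableEq m] (x v : m → ℝ) (b : m) (F : Finset m)
    (hF : ∀ f, f ∉ F → x f = 0) :
    x b ^ 2 * ∑ f ∈ Finset.univ \ F, v f ^ 2 ≤
      (∑ f, v f ^ 2) * (x ⬝ᵥ x) - (v ⬝ᵥ x) ^ 2 := by
  have hxx : x ⬝ᵥ x = ∑ f ∈ F, x f ^ 2 := by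
    rw [dotProduct, ← Finset.sum_subset (Finset.subset_univ F) fun f _ hf => by simp [hF f hf]]
    exact Finset.sum_congr rfl fun f _ => (sq _).symm
  have hvx : v ⬝ᵥ x = ∑ f ∈ F, v f * x f := by
    rw [dotProduct, ← Finset.sum_subset (Finset.subset_univ F) fun f _ hf => by simp [hF f hf]]
  have hcs := Finset.sum_mul_sq_le_sq_mul_sq F v x
  have hb : x b ^ 2 ≤ x ⬝ᵥ x := by
    rw [dotProduct, sq]
    exact Finset.single_le_sum (f := fun f => x f * x f) (fun f _ => mul_self_nonneg _)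
      (Finset.mem_univ b)
  have hsplit : (∑ f, v f ^ 2) = ∑ f ∈ Finset.univ \ F, v f ^ 2 + ∑ f ∈ F, v f ^ 2 :=
    (Finset.sum_sdiff (Finset.subset_univ F)).symm
  have h0 : (0 : ℝ) ≤ ∑ f ∈ Finset.univ \ F, v f ^ 2 := Finset.sum_nonneg fun f _ => sq_nonneg _
  rw [← hxx, ← hvx] at hcs
  have h2 := mul_le_mul_of_nonneg_left hb h0
  rw [hsplit, add_mul]
  linarith [mul_comm (x b ^ 2) (∑ f ∈ Finset.univ \ F, v f ^ 2)]

theorem one_le_sq_of_intCast {r : ℝ} {n : ℤ} (h : (n : ℝ) = r) (hr : r ≠ 0) : 1 ≤ r ^ 2 := by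
  subst h
  have : n ≠ 0 := fun h => hr (by simp [h])
  exact_mod_cast Int.one_le_abs this |>.trans (by
    rw [← sq_abs]; nlinarith [Int.one_le_abs this] : |n| ≤ n ^ 2)

variable {ι : Type*} [Fintype ι]

/-- The minimum of `q` times the inverse Gram form. -/
theorem le_form {l : ℕ} (g : ι → Fin l → ℤ) (Q : Fin l → Fin l → ℤ) {q : ℤ} (hq : 0 < q)
    (hQA : ∀ a c, ∑ e, Q a e * ∑ i, g i e * g i c = if a = c then q else 0)
    (hdetA : (Matrix.of fun a c => ∑ i, g i a * g i c).det ≤ q)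
    (hloop : ∀ i, ∀ y : Fin l → ℝ, (∀ j, j ≠ i → ∑ a, (g j a : ℝ) * y a = 0) →
      ∑ a, (g i a : ℝ) * y a = 0)
    {x : Fin l → ℤ} (hx : x ≠ 0) :
    (l : ℤ) ≤ ∑ a, ∑ c, x a * Q a c * x c := by
  classical
  set R : Matrix ι (Fin l) ℝ := Matrix.of fun i a => (g i a : ℝ) with hR
  set A : Matrix (Fin l) (Fin l) ℝ := Rᵀ * R with hA
  set Qr : Matrix (Fin l) (Fin l) ℝ := Matrix.of fun a c => (Q a c : ℝ) with hQr
  have hqr : (0 : ℝ) < q := by exact_mod_cast hq
  have hQA' : Qr * A = (q : ℝ) • (1 : Matrix (Fin l) (Fin l) ℝ) := by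
    ext a c
    have h := congrArg (fun n : ℤ => (n : ℝ)) (hQA a c)
    simp only [Int.cast_sum, Int.cast_mul] at h
    simp only [hQr, hA, hR, mul_apply, of_apply, transpose_apply, Matrix.smul_apply,
      Matrix.one_apply, smul_eq_mul, h]
    split_ifs <;> simp
  have hAdet : A.det ≠ 0 := fun h => by
    have := congrArg Matrix.det hQA'
    rw [det_mul, h, mul_zero, det_smul, det_one, mul_one] at this
    exact pow_ne_zero _ hqr.ne' this.symm
  have hAle : A.det ≤ q := by
    have e : A = (Matrix.of fun a c => ∑ i, g i a * g i c).map (Int.castRingHom ℝ) := by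
      ext a c
      simp [hA, hR, mul_apply]
    rw [e, ← RingHom.mapMatrix_apply, ← RingHom.map_det, Int.coe_castRingHom]
    exact Int.cast_le.2 hdetA
  have hker : ∀ y : Fin l → ℝ, R *ᵥ y = 0 → y = 0 := fun y hy =>
    eq_zero_of_mulVec_eq_zero hAdet (by rw [hA, ← mulVec_mulVec, hy, mulVec_zero])
  -- a basis among the rows
  obtain ⟨e, he⟩ : ∃ e : Fin l → ι, (Matrix.of fun a : Fin l => R (e a)).det ≠ 0 := by
    obtain ⟨t, ht, hspan, hli⟩ := exists_linearIndependent ℝ (Set.range R)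
    have hsurj : Submodule.span ℝ (Set.range R) = ⊤ := by
      show Submodule.span ℝ (Set.range R.row) = ⊤
      rw [← range_vecMulLinear, eq_top_iff]
      intro w _
      rw [LinearMap.mem_range]
      have hAu : IsUnit A.det := isUnit_iff_ne_zero.2 hAdet
      refine ⟨R *ᵥ (A⁻¹ *ᵥ w), ?_⟩
      rw [vecMulLinear_apply, ← mulVec_transpose, mulVec_mulVec, ← hA, mulVec_mulVec,
        mul_nonsing_inv A hAu, one_mulVec]
    have htfin : Finite t := Set.Finite.to_subtype ((Set.finite_range R).subset ht)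
    have := Fintype.ofFinite t
    let B : Module.Basis t ℝ (Fin l → ℝ) := Module.Basis.mk hli (by
      rw [Subtype.range_coe, hspan, hsurj])
    have hcard : Fintype.card t = l := by
      have := (Module.finrank_eq_card_basis B).symm
      rwa [Module.finrank_fintype_fun_eq_card, Fintype.card_fin] at this
    let σ : Fin l ≃ t := (Fintype.equivFinOfCardEq hcard).symm
    choose pre hpre using fun v : t => ht v.2
    refine ⟨fun a => pre (σ a), ?_⟩
    have e1 : (Matrix.of fun a : Fin l => R (pre (σ a))) = Matrix.of fun a => ((σ a : t) : Fin l → ℝ) := by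
      ext a c
      simp [hpre]
    rw [e1, ← isUnit_iff_ne_zero, ← isUnit_iff_isUnit_det, ← linearIndependent_rows_iff_isUnit]
    exact hli.comp _ σ.injective
  set G : Matrix (Fin l) (Fin l) ℝ := Matrix.of fun a => R (e a) with hG
  have hGu : IsUnit G.det := isUnit_iff_ne_zero.2 he
  set V : Matrix ι (Fin l) ℝ := R * G⁻¹ with hV
  have hVe : ∀ a f, V (e a) f = if a = f then 1 else 0 := fun a f => by
    have h : (G * G⁻¹) a f = (1 : Matrix (Fin l) (Fin l) ℝ) a f := by rw [mul_nonsing_inv G hGu]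
    rw [Matrix.one_apply] at h
    rw [← h, hV, mul_apply, mul_apply]
    rfl
  have hRV : R = V * G := by rw [hV, Matrix.mul_assoc, nonsing_inv_mul G hGu, Matrix.mul_one]
  have hinj : Function.Injective e := fun a b hab => by
    by_contra hne
    exact he (det_zero_of_row_eq hne (congrArg R hab))
  set S : Finset ι := Finset.univ \ Finset.univ.image e with hS
  set W : Matrix S (Fin l) ℝ := Matrix.of fun j f => V j f with hW
  have hVV : Vᵀ * V = 1 + Wᵀ * W := by
    ext f f'
    rw [mul_apply, Matrix.add_apply, mul_apply, ← Finset.sum_sdiff (Finset.subset_univ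
      (Finset.univ.image e)), ← hS, add_comm, Finset.sum_image fun a _ b _ h => hinj h]
    congr 1
    · simp [hVe, Matrix.one_apply, eq_comm]
    · exact (Finset.sum_coe_sort S fun j => Vᵀ f j * V j f').symm
  set xr : Fin l → ℝ := fun a => (x a : ℝ) with hxr
  set x' : Fin l → ℝ := (G⁻¹)ᵀ *ᵥ xr with hx'
  have hxG : xr = Gᵀ *ᵥ x' := by
    rw [hx', mulVec_mulVec, ← transpose_mul, nonsing_inv_mul G hGu, transpose_one, one_mulVec]
  have hAG : A = Gᵀ * (1 + Wᵀ * W) * G := by
    rw [← hVV, hA, hRV, transpose_mul]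
    simp only [Matrix.mul_assoc]
  set N := (1 : Matrix (Fin l) (Fin l) ℝ) + Wᵀ * W with hN
  have hform : ((∑ a, ∑ c, x a * Q a c * x c : ℤ) : ℝ) = q * (x' ⬝ᵥ (N⁻¹ *ᵥ x')) := by
    have hQinv : Qr = (q : ℝ) • A⁻¹ := by
      calc Qr = Qr * (A * A⁻¹) := by rw [mul_nonsing_inv A (isUnit_iff_ne_zero.2 hAdet), mul_one]
        _ = _ := by rw [← Matrix.mul_assoc, hQA', smul_mul, one_mul]
    have h1 : ((∑ a, ∑ c, x a * Q a c * x c : ℤ) : ℝ) = xr ⬝ᵥ (Qr *ᵥ xr) := by
      push_cast
      simp only [dotProduct, mulVec, hQr, of_apply, hxr, Finset.mul_sum]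
      exact Finset.sum_congr rfl fun a _ => Finset.sum_congr rfl fun c _ => by ring
    rw [h1, hQinv, smul_mulVec, dotProduct_smul, smul_eq_mul]
    congr 1
    rw [hAG, Matrix.mul_inv_rev, Matrix.mul_inv_rev, ← mulVec_mulVec, ← mulVec_mulVec, dotProduct_mulVec,
      ← mulVec_transpose, ← transpose_nonsing_inv, ← hx']
  have hdetAG : A.det = G.det ^ 2 * N.det := by
    rw [hAG, det_mul, det_mul, det_transpose]
    ring
  have hNnn : 0 ≤ x' ⬝ᵥ (N⁻¹ *ᵥ x') := by
    have hps : N.PosSemidef := by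
      rw [hN, ← conjTranspose_eq_transpose_of_trivial]
      exact PosSemidef.one.add (posSemidef_conjTranspose_mul_self W)
    simpa using hps.inv.dotProduct_mulVec_nonneg x'
  have hlow : G.det ^ 2 * ((1 + ∑ j, ∑ f, W j f ^ 2) * (x' ⬝ᵥ x') - ∑ j, ((W *ᵥ x') j) ^ 2) ≤
      ((∑ a, ∑ c, x a * Q a c * x c : ℤ) : ℝ) := by
    rw [hform]
    calc _ ≤ G.det ^ 2 * (N.det * (x' ⬝ᵥ (N⁻¹ *ᵥ x'))) :=
          mul_le_mul_of_nonneg_left (det_mul_inv_ge W x') (sq_nonneg _)
      _ = A.det * (x' ⬝ᵥ (N⁻¹ *ᵥ x')) := by rw [hdetAG]; ring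
      _ ≤ _ := mul_le_mul_of_nonneg_right hAle hNnn
  -- the minors
  set Gi : Matrix (Fin l) (Fin l) ℤ := Matrix.of fun a => g (e a) with hGi
  have hGcast : ∀ H : Matrix (Fin l) (Fin l) ℤ, ((H.det : ℤ) : ℝ) = (H.map (Int.cast : ℤ → ℝ)).det :=
    fun H => RingHom.map_det (Int.castRingHom ℝ) H
  have hGmap : Gi.map (Int.cast : ℤ → ℝ) = G := by
    ext a c
    simp [hGi, hG, hR]
  have hrow : ∀ (w : Fin l → ℝ), Gᵀ *ᵥ w = ∑ k, w k • G k := fun w => by
    ext c
    simp [mulVec, dotProduct, Finset.sum_apply, mul_comm]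
  have hminor1 : ∀ f, ((Gi.updateRow f x).det : ℝ) = G.det * x' f := fun f => by
    rw [hGcast, map_updateRow, hGmap, show ((Int.cast : ℤ → ℝ) ∘ x) = xr from rfl, hxG, hrow,
      det_updateRow_sum, smul_eq_mul, mul_comm]
  obtain ⟨b, hb⟩ : ∃ b, x' b ≠ 0 := by
    by_contra hno
    push Not at hno
    refine hx (funext fun a => ?_)
    have h := congrFun hxG a
    rw [show x' = 0 from funext hno, mulVec_zero] at h
    simpa [hxr] using h
  have hminor2 : ∀ (j : ι) (f : Fin l), x' f = 0 →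
      (((Gi.updateRow b x).updateRow f (g j)).det : ℝ) = G.det * x' b * V j f := by
    intro j f hf
    have hfb : f ≠ b := fun h => hb (h ▸ hf)
    set G1 := G.updateRow b xr with hG1
    have hG1d : G1.det = G.det * x' b := by
      rw [hG1, hxG, hrow, det_updateRow_sum, smul_eq_mul, mul_comm]
    have hG1k : ∀ k, k ≠ b → G1 k = G k := fun k hk => by rw [hG1]; exact updateRow_ne hk
    have hG1b : G1 b = ∑ k, x' k • G k := by rw [hG1, updateRow_self, hxG, hrow]
    have hgj : (fun a => (g j a : ℝ)) = ∑ k, V j k • G k := by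
      funext c
      have := congrFun (congrFun hRV j) c
      simp only [hR, of_apply, mul_apply] at this
      simpa [Finset.sum_apply] using this
    set w : Fin l → ℝ := fun k => if k = b then V j b / x' b else V j k - V j b / x' b * x' k
      with hw
    have hcomb : (fun a => (g j a : ℝ)) = ∑ k, w k • G1 k := by
      rw [hgj, ← Finset.add_sum_erase _ _ (Finset.mem_univ b),
        ← Finset.add_sum_erase Finset.univ (fun k => w k • G1 k) (Finset.mem_univ b), hG1b,
        ← Finset.add_sum_erase Finset.univ (fun k => x' k • G k) (Finset.mem_univ b), smul_add,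
        Finset.smul_sum, add_assoc, ← Finset.sum_add_distrib]
      congr 1
      · simp [hw, smul_smul, div_mul_cancel₀ _ hb]
      · refine Finset.sum_congr rfl fun k hk => ?_
        have hk' := Finset.ne_of_mem_erase hk
        rw [hG1k k hk', smul_smul, ← add_smul]
        simp [hw, hk']
    rw [hGcast, map_updateRow, map_updateRow, hGmap,
      show ((Int.cast : ℤ → ℝ) ∘ x) = xr from rfl, ← hG1,
      show ((Int.cast : ℤ → ℝ) ∘ g j) = (fun a => (g j a : ℝ)) from rfl, hcomb, det_updateRow_sum,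
      smul_eq_mul, hG1d]
    simp [hw, hfb, hf, mul_comm]
  set F := Finset.univ.filter fun f => x' f ≠ 0 with hF
  have hout : ∀ f, f ∉ F → x' f = 0 := fun f hf => by simpa [hF] using hf
  have hterm : ∀ f ∈ Finset.univ \ F, 1 ≤ ∑ j : S, (G.det * x' b * W j f) ^ 2 := by
    intro f hf
    have hxf := hout f (Finset.mem_sdiff.1 hf).2
    obtain ⟨j, hjS, hj⟩ : ∃ j ∈ S, V j f ≠ 0 := by
      by_contra hno
      push Not at hno
      have h := hloop (e f) (fun a => G⁻¹ a f) fun j hj => ?_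
      · have h1 := hVe f f
        rw [if_pos rfl, hV, mul_apply] at h1
        simp only [hR, of_apply] at h1
        linarith
      · by_cases hjS : j ∈ S
        · have := hno j hjS
          rwa [hV, mul_apply] at this
        · obtain ⟨a, -, rfl⟩ : ∃ a ∈ Finset.univ, e a = j := by simpa [hS] using hjS
          have := hVe a f
          rw [if_neg fun h : a = f => hj (congrArg e h), hV, mul_apply] at this
          exact this
    refine le_trans ?_ (Finset.single_le_sum (f := fun j : S => (G.det * x' b * W j f) ^ 2)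
      (fun j _ => sq_nonneg _) (Finset.mem_univ ⟨j, hjS⟩))
    exact one_le_sq_of_intCast (hminor2 j f hxf) (mul_ne_zero (mul_ne_zero he hb) hj)
  have hdiag : ∀ f ∈ F, 1 ≤ (G.det * x' f) ^ 2 := fun f hf =>
    one_le_sq_of_intCast (hminor1 f) (mul_ne_zero he (Finset.mem_filter.1 hf).2)
  have hgoal : (l : ℝ) ≤
      G.det ^ 2 * ((1 + ∑ j, ∑ f, W j f ^ 2) * (x' ⬝ᵥ x') - ∑ j, ((W *ᵥ x') j) ^ 2) := by
    have h1 : ((F.card : ℕ) : ℝ) ≤ G.det ^ 2 * (x' ⬝ᵥ x') := by
      rw [dotProduct, Finset.mul_sum]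
      calc ((F.card : ℕ) : ℝ) = ∑ _f ∈ F, (1 : ℝ) := by simp
        _ ≤ ∑ f ∈ F, (G.det * x' f) ^ 2 := Finset.sum_le_sum hdiag
        _ = ∑ f ∈ F, G.det ^ 2 * (x' f * x' f) := Finset.sum_congr rfl fun f _ => by ring
        _ ≤ _ := Finset.sum_le_sum_of_subset_of_nonneg (Finset.subset_univ F)
              fun f _ _ => mul_nonneg (sq_nonneg _) (mul_self_nonneg _)
    have h2 : (((Finset.univ \ F).card : ℕ) : ℝ) ≤
        G.det ^ 2 * ∑ j : S, ((∑ f, W j f ^ 2) * (x' ⬝ᵥ x') - ((W *ᵥ x') j) ^ 2) := by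
      calc (((Finset.univ \ F).card : ℕ) : ℝ) = ∑ _f ∈ Finset.univ \ F, (1 : ℝ) := by simp
        _ ≤ ∑ f ∈ Finset.univ \ F, ∑ j : S, (G.det * x' b * W j f) ^ 2 := Finset.sum_le_sum hterm
        _ = G.det ^ 2 * ∑ j : S, x' b ^ 2 * ∑ f ∈ Finset.univ \ F, W j f ^ 2 := by
            rw [Finset.sum_comm, Finset.mul_sum]
            refine Finset.sum_congr rfl fun j _ => ?_
            rw [Finset.mul_sum, Finset.mul_sum]
            exact Finset.sum_congr rfl fun f _ => by ring
        _ ≤ _ := mul_le_mul_of_nonneg_left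
              (Finset.sum_le_sum fun j _ => cross_le x' (W j) b F hout) (sq_nonneg _)
    have hcard : ((F.card : ℕ) : ℝ) + ((Finset.univ \ F).card : ℕ) = l := by
      rw [← Nat.cast_add, add_comm, Finset.card_sdiff_add_card_eq_card (Finset.subset_univ F),
        Finset.card_univ, Fintype.card_fin]
    rw [Finset.sum_sub_distrib, ← Finset.sum_mul] at h2
    rw [mul_comm ((1 : ℝ) + _), mul_add, mul_one]
    rw [mul_comm (∑ j : S, ∑ f, W j f ^ 2)] at h2
    nlinarith
  exact_mod_cast hgoal.trans hlow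

end Cfsg.Agent.Lib.DefectBound
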