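import Mathlib
import Cfsg.Agent.Lib.DefectBound.AbelianMinors
import Cfsg.Agent.Lib.BlockUnion.Quotient
import Cfsg.Agent.Lib.BrauerMap.CentralQuotient
import Cfsg.Agent.Lib.NilBlock.Main

/-!
# The block of the centralizer of an element of an abelian defect group

Its maximal pair, its rank one subsections, and its quotient by the element.
-/

set_option autoImplicit false
set_option linter.unusedSectionVars false

namespace Cfsg.Agent.Lib.DefectBound

open Cfsg
open Cfsg.Agent.Lib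
open Cfsg.Agent.Lib.BrauerPairs
open Cfsg.Agent.Lib.NilBlock (bu bu_fst bu_le)
open Cfsg.Agent.Lib.BrauerMap (sameBlock_of_agree_pRegular exists_pRegular_lift centralChar_inflate_eq)

universe u

section Fix

variable {G : Type u} [Group G] {p : ℕ} [Fact p.Prime] {P : Subgroup G} {g z w : G}

/-- An element of order prime to `p` on an abelian `p`-group `<z, w>` that fixes `z` and an element
outside `<z>` centralises the group. -/
theorem mem_centralizer_of_fix_two (hP : IsPGroup p P) (hab : ∀ x ∈ P, ∀ y ∈ P, x * y = y * x)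
    (hz : z ∈ P) (hw : w ∈ P) (hgen : ∀ x ∈ P, ∃ a c : ℤ, z ^ a * w ^ c = x) {N : ℕ} (hN : ¬ p ∣ N)
    (hgN : g ^ N ∈ Subgroup.centralizer (P : Set G))
    (hnorm : ∀ x ∈ P, g * x * g⁻¹ ∈ P) (hgz : g * z * g⁻¹ = z) {v : G} (hv : v ∈ P)
    (hv1 : v ∉ Subgroup.zpowers z) (hgv : g * v * g⁻¹ = v) :
    g ∈ Subgroup.centralizer (P : Set G) := by
  have hpp : p.Prime := Fact.out
  have hzp : Subgroup.zpowers z ≤ P := Subgroup.zpowers_le.2 hz
  obtain ⟨n₀, hn₀⟩ : ∃ n : ℕ, v ^ p ^ n ∈ Subgroup.zpowers z := by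
    obtain ⟨n, hn⟩ := hP ⟨v, hv⟩
    exact ⟨n, by rw [show v ^ p ^ n = 1 from congrArg Subtype.val hn]; exact one_mem _⟩
  -- an element of order `p` modulo `<z>` that is fixed
  obtain ⟨v', hv', hv'1, hv'p, hgv'⟩ : ∃ v', v' ∈ P ∧ v' ∉ Subgroup.zpowers z ∧
      v' ^ p ∈ Subgroup.zpowers z ∧ g * v' * g⁻¹ = v' := by
    induction n₀ with
    | zero => exact absurd (by simpa using hn₀) hv1
    | succ n ih =>
      by_cases h : v ^ p ^ n ∈ Subgroup.zpowers z
      · exact ih h
      · exact ⟨v ^ p ^ n, pow_mem hv _, h, by rw [← pow_mul, ← pow_succ]; exact hn₀,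
          by rw [← conj_pow, hgv]⟩
  -- the solutions of `x ^ p ∈ <z>` are fixed
  have hbase : ∀ x ∈ P, x ^ p ∈ Subgroup.zpowers z → g * x * g⁻¹ = x := by
    intro x hx hxp
    letI : CommGroup P :=
      { (inferInstance : Group P) with mul_comm := fun a c => Subtype.ext (hab _ a.2 _ c.2) }
    set Z : Subgroup P := Subgroup.zpowers ⟨z, hz⟩
    have hmemZ : ∀ a : P, a ∈ Z ↔ (a : G) ∈ Subgroup.zpowers z := fun a => by
      constructor
      · rintro ⟨k, hk⟩
        exact ⟨k, (SubgroupClass.coe_zpow (⟨z, hz⟩ : P) k).symm.trans (congrArg Subtype.val hk)⟩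
      · rintro ⟨k, hk⟩
        exact ⟨k, Subtype.ext ((SubgroupClass.coe_zpow (⟨z, hz⟩ : P) k).trans hk)⟩
    set π := QuotientGroup.mk' Z
    haveI : IsCyclic (P ⧸ Z) := by
      refine ⟨π ⟨w, hw⟩, fun y => ?_⟩
      obtain ⟨⟨x', hx'⟩, rfl⟩ := QuotientGroup.mk'_surjective Z y
      obtain ⟨a, c, hac⟩ := hgen x' hx'
      refine ⟨c, ?_⟩
      have hx'e : (⟨x', hx'⟩ : P) = (⟨z, hz⟩ : P) ^ a * (⟨w, hw⟩ : P) ^ c :=
        Subtype.ext (by simp [hac])
      rw [hx'e, map_mul, show π ((⟨z, hz⟩ : P) ^ a) = 1 from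
        (QuotientGroup.eq_one_iff _).2 (zpow_mem (Subgroup.mem_zpowers _) a), one_mul, map_zpow]
    have hy : π ⟨v', hv'⟩ ^ p = 1 := by
      rw [← map_pow]
      exact (QuotientGroup.eq_one_iff _).2 ((hmemZ _).2 hv'p)
    have hy1 : π ⟨v', hv'⟩ ≠ 1 := fun h => hv'1 ((hmemZ _).1 ((QuotientGroup.eq_one_iff _).1 h))
    have hxy : π ⟨x, hx⟩ ∈ Subgroup.zpowers (π ⟨v', hv'⟩) := by
      obtain ⟨t, ht⟩ := IsCyclic.exists_generator (α := P ⧸ Z)
      obtain ⟨i, hi⟩ := ht (π ⟨v', hv'⟩)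
      obtain ⟨k, hk⟩ := ht (π ⟨x, hx⟩)
      dsimp only at hi hk
      have hxq : π ⟨x, hx⟩ ^ p = 1 := by
        rw [← map_pow]
        exact (QuotientGroup.eq_one_iff _).2 ((hmemZ _).2 hxp)
      rw [← hi, ← zpow_natCast, ← zpow_mul, ← orderOf_dvd_iff_zpow_eq_one] at hy
      rw [← hk, ← zpow_natCast, ← zpow_mul, ← orderOf_dvd_iff_zpow_eq_one] at hxq
      rw [← hi, Ne, ← orderOf_dvd_iff_zpow_eq_one] at hy1
      obtain ⟨m, hm⟩ : (p : ℤ) ∣ (orderOf t : ℤ) :=
        ((Nat.prime_iff_prime_int.1 hpp).coprime_iff_not_dvd.not_left).1 fun hc =>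
          hy1 (hc.symm.dvd_of_dvd_mul_right hy)
      have hm0 : ∀ {r : ℤ}, (orderOf t : ℤ) ∣ r * p → m ∣ r := fun {r} h => by
        rw [hm, mul_comm r] at h
        exact Int.dvd_of_mul_dvd_mul_left (Int.natCast_ne_zero.2 hpp.ne_zero) h
      obtain ⟨i', rfl⟩ := hm0 hy
      obtain ⟨k', rfl⟩ := hm0 hxq
      have hpi : ¬ (p : ℤ) ∣ i' := fun h => hy1 (by rw [hm, mul_comm]; exact mul_dvd_mul_left m h)
      obtain ⟨a, c, hac⟩ := ((Nat.prime_iff_prime_int.1 hpp).coprime_iff_not_dvd.2 hpi)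
      refine ⟨c * k', ?_⟩
      show π ⟨v', hv'⟩ ^ (c * k') = _
      rw [← hi, ← hk, ← zpow_mul]
      refine (orderOf_dvd_sub_iff_zpow_eq_zpow).1 ⟨-(a * k'), ?_⟩
      rw [hm]
      linear_combination (m * k') * hac
    obtain ⟨k, hk⟩ := hxy
    have h1 : ((⟨x, hx⟩ : P) * ((⟨v', hv'⟩ : P) ^ k)⁻¹ : P) ∈ Z := by
      rw [← QuotientGroup.eq_one_iff]
      show π _ = 1
      rw [map_mul, map_inv, map_zpow, ← hk, mul_inv_cancel]
    obtain ⟨r, hr⟩ := (hmemZ _).1 h1
    have hxe : x = z ^ r * v' ^ k := by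
      simp only [Subgroup.coe_mul, InvMemClass.coe_inv, SubgroupClass.coe_zpow] at hr
      rw [hr, inv_mul_cancel_right]
    have h2 : g * x * g⁻¹ = (g * z * g⁻¹) ^ r * (g * v' * g⁻¹) ^ k := by
      rw [conj_zpow, conj_zpow, hxe]
      group
    rw [h2, hgz, hgv', ← hxe]
  -- all elements are fixed
  have hall : ∀ (k : ℕ) (x : G), x ∈ P → x ^ p ^ k ∈ Subgroup.zpowers z → g * x * g⁻¹ = x := by
    intro k
    induction k with
    | zero =>
      intro x hx hxk
      rw [pow_zero, pow_one] at hxk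
      exact hbase x hx (pow_mem hxk p)
    | succ k ih =>
      intro x hx hxk
      set y := g * x * g⁻¹ * x⁻¹ with hy
      have hyP : y ∈ P := mul_mem (hnorm x hx) (inv_mem hx)
      have hxp := ih (x ^ p) (pow_mem hx p) (by rw [← pow_mul, ← pow_succ']; exact hxk)
      have hyp : y ^ p = 1 := by
        rw [hy, Commute.mul_pow (hab _ (hnorm x hx) _ (inv_mem hx)), conj_pow, hxp, inv_pow,
          mul_inv_cancel]
      have hgy : g * y * g⁻¹ = y := hbase y hyP (by rw [hyp]; exact one_mem _)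
      have hiter : ∀ i : ℕ, g ^ i * x * (g ^ i)⁻¹ = y ^ i * x := by
        intro i
        induction i with
        | zero => simp
        | succ i hi =>
          calc g ^ (i + 1) * x * (g ^ (i + 1))⁻¹ = g * (g ^ i * x * (g ^ i)⁻¹) * g⁻¹ := by
                rw [pow_succ']; group
            _ = (g * y * g⁻¹) ^ i * (g * x * g⁻¹) := by rw [hi, conj_pow]; group
            _ = y ^ i * (g * x * g⁻¹) := by rw [hgy]
            _ = y ^ (i + 1) * x := by
                rw [hy, pow_succ]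
                group
      have hyN : y ^ N = 1 := by
        have h := hiter N
        rw [← Subgroup.mem_centralizer_iff.1 hgN x hx, mul_inv_cancel_right] at h
        exact mul_right_cancel (b := x) (by rw [one_mul, ← h])
      have hy1 : y = 1 := by
        have := pow_gcd_eq_one.2 ⟨hyp, hyN⟩
        rwa [(hpp.coprime_iff_not_dvd.2 hN).gcd_eq_one, pow_one] at this
      exact mul_inv_eq_one.1 hy1
  refine Subgroup.mem_centralizer_iff.2 fun x hx => ?_
  obtain ⟨k, hk⟩ := hP ⟨x, hx⟩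
  have h := hall k x hx (by
    rw [show x ^ p ^ k = 1 from congrArg Subtype.val hk]; exact one_mem _)
  exact (mul_inv_eq_iff_eq_mul.1 h).symm

end Fix

section Local

variable {G : Type u} [Group G] [Fintype G] {p : ℕ} {M : Ideal AlgInt} [Fact p.Prime] [M.IsPrime]
  {B : Set (IrrCharacter G)} {b : BrauerPairIdx G}
  (hM : IsPModular p M) (hmax : IsMaximalBrauerPair p M B b.1 b.2)
  (hab : ∀ x ∈ b.1, ∀ y ∈ b.1, x * y = y * x)

include hM hmax hab in
/-- The subsections outside `<z>` have rank one. -/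
theorem blockRank_bu_eq_one {z w : G} (hz : z ∈ b.1) (hzc : z ∈ Subgroup.center G) (hw : w ∈ b.1)
    (hgen : ∀ x ∈ b.1, ∃ a c : ℤ, z ^ a * w ^ c = x) {v : G} (hv : v ∈ b.1)
    (hv1 : v ∉ Subgroup.zpowers z) : blockRank p (bu p M b v).2 = 1 := by
  haveI := Fintype.ofFinite (Subgroup.centralizer ((bu p M b v).1 : Set G))
  refine NilBlock.blockRank_eq_one hM ?_
  refine (LocalInertial.isNilpotentBlock_iff hM hab (by rw [bu_fst]; exact Subgroup.zpowers_le.2 hv)
    hmax (AbelianStar.isInducedBlockIn_bu hM hmax hab hv)).2 fun g hgC hgN hst => ?_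
  have hgb : g ∈ pairStab hmax.1.1.2 := (mem_pairStab_iff_stabilizesBlock _).2 ⟨hgN, hst⟩
  obtain ⟨N, hN, hpow⟩ := CyclicInertia.exists_pow_mem_centralizer hM hmax hab
  refine mem_centralizer_of_fix_two hmax.1.1.1 hab hz hw hgen hN (hpow g hgb)
    (fun x hx => (Subgroup.mem_normalizer_iff.1 hgN x).1 hx) ?_ hv hv1 ?_
  · rw [Subgroup.mem_center_iff.1 hzc g, mul_inv_cancel_right]
  · rw [NilBlock.centralizer_bu, Subgroup.mem_centralizer_singleton_iff] at hgC
    rw [hgC, mul_inv_cancel_right]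

include hM hmax hab in
/-- The maximal pair of the block of the centralizer of an element of the pair. -/
theorem exists_local_pair {u : G} (hu : u ∈ b.1) :
    ∃ bC : BrauerPairIdx ↥(Subgroup.centralizer ((bu p M b u).1 : Set G)),
      bC.1 = b.1.subgroupOf (Subgroup.centralizer ((bu p M b u).1 : Set G)) ∧
      IsMaximalBrauerPair p M (bu p M b u).2 bC.1 bC.2 := by
  have hQ : (bu p M b u).1 ≤ b.1 := by rw [bu_fst]; exact Subgroup.zpowers_le.2 hu
  have hPC := le_centralizer_of_comm hab hQ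
  exact ⟨⟨_, LocalInertial.subBlock hPC hQ b.2⟩, rfl,
    LocalInertial.isMaximal_sub hM hPC hQ hmax (AbelianStar.isInducedBlockIn_bu hM hmax hab hu)⟩

end Local

section Quotient

variable {H : Type u} [Group H] [Finite H] {p : ℕ} [Fact p.Prime] {M : Ideal AlgInt} [M.IsPrime]

/-- The quotient block by a central `p`-subgroup, and a height zero character trivial on it. -/
theorem exists_quotient_central (hM : IsPModular p M) (Z : Subgroup H) [Z.Normal]
    (hZc : Z ≤ Subgroup.center H) {j : ℕ} (hZ : Nat.card Z = p ^ j) {b : Set (IrrCharacter H)}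
    (hb : IsPBlock M b) {P : Subgroup H} (hP : IsDefectGroup p M b P) :
    ∃ bq : Set (IrrCharacter (H ⧸ Z)), IsPBlock M bq ∧
      IsDefectGroup p M bq (P.map (QuotientGroup.mk' Z)) ∧
      blockDefect p bq + j = blockDefect p b ∧
      Nat.card {χ : IrrCharacter H // χ ∈ b ∧ ∀ x ∈ Z, (χ : H → ℂ) x = (χ : H → ℂ) 1} ≤
        Nat.card bq ∧
      ∃ η ∈ b, blockHeight p b (η : H → ℂ) = 0 ∧ ∀ x ∈ Z, (η : H → ℂ) x = (η : H → ℂ) 1 := by
  classical
  cases nonempty_fintype H
  haveI := Fintype.ofFinite (H ⧸ Z)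
  have hpp : p.Prime := Fact.out
  have hZp : IsPGroup p Z := IsPGroup.of_card hZ
  have hsup : Z ⊔ Subgroup.centralizer (Z : Set H) = ⊤ := by
    refine eq_top_iff.2 fun x _ => Subgroup.mem_sup_right (Subgroup.mem_centralizer_iff.2 ?_)
    exact fun w hw => (Subgroup.mem_center_iff.1 (hZc hw) x).symm
  obtain ⟨bq, hbq, hsub, hdef⟩ := BlockUnion.exists_block_quot Z hM hZp hb
  have hQd : IsDefectGroup p M bq (P.map (QuotientGroup.mk' Z)) := (hdef _).2 ⟨P, hP, rfl⟩
  have hdd : blockDefect p bq + j = blockDefect p b := by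
    have hZP : Z ≤ P := Blocks.normal_le_defectGroup hM hZp hb hP
    refine Nat.pow_right_injective hpp.two_le ?_
    show p ^ (blockDefect p bq + j) = p ^ blockDefect p b
    rw [pow_add, ← BrauerFeit.card_defectGroup hM hbq hQd, ← BrauerFeit.card_defectGroup hM hb hP]
    set φ := (QuotientGroup.mk' Z).comp P.subtype with hφ
    have hrange : φ.range = P.map (QuotientGroup.mk' Z) := by
      rw [hφ, MonoidHom.range_comp, Subgroup.range_subtype]
    have hker : φ.ker = Z.subgroupOf P := by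
      rw [hφ, ← MonoidHom.comap_ker, QuotientGroup.ker_mk']
      rfl
    rw [← Subgroup.card_mul_index φ.ker, Subgroup.index_ker, hrange, hker,
      Nat.card_congr (Subgroup.subgroupOfEquivOfLe hZP).toEquiv, hZ, mul_comm]
  refine ⟨bq, hbq, hQd, hdd, ?_, ?_⟩
  · obtain ⟨φ₀, hφ₀⟩ := Blocks.isPBlock_nonempty hbq
    have key : ∀ χ : {χ : IrrCharacter H // χ ∈ b ∧ ∀ x ∈ Z, (χ : H → ℂ) x = (χ : H → ℂ) 1},
        ∃ ψ : bq, Chars.inflate Z (ψ : IrrCharacter (H ⧸ Z)) = χ.1 := by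
      rintro ⟨χ, hχ, hker⟩
      obtain ⟨ψ, hψ⟩ := Chars.exists_irr_quotient Z χ hker
      have he : Chars.inflate Z ψ = χ := Subtype.ext (funext hψ)
      refine ⟨⟨ψ, Blocks.mem_of_sameBlock hbq hφ₀ ?_⟩, he⟩
      refine sameBlock_of_agree_pRegular hM fun q hq => ?_
      obtain ⟨g, hg, rfl⟩ := exists_pRegular_lift hZp hq
      rw [← centralChar_inflate_eq hZp hsup _ hg, ← centralChar_inflate_eq hZp hsup _ hg]
      exact Blocks.sameBlock_of_mem hb (hsub φ₀ hφ₀) (he.symm ▸ hχ) g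
    choose f hf using key
    refine Nat.card_le_card_of_injective f fun a c hac => Subtype.ext ?_
    rw [← hf a, ← hf c, hac]
  · obtain ⟨φ, hφ, hφ0⟩ := BrauerFeit.exists_height_zero (p := p) (Blocks.isPBlock_nonempty hbq)
    have hdeg : charDegree (Chars.inflate Z φ : H → ℂ) = charDegree (φ : H ⧸ Z → ℂ) := by
      have h : (Chars.inflate Z φ : H → ℂ) 1 = (φ : H ⧸ Z → ℂ) 1 := by
        show (φ : H ⧸ Z → ℂ) ((1 : H) : H ⧸ Z) = _
        rw [QuotientGroup.mk_one]
      rw [(Blocks.exists_degree_eq (Chars.inflate Z φ)).1, (Blocks.exists_degree_eq φ).1] at h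
      exact_mod_cast h
    refine ⟨Chars.inflate Z φ, hsub φ hφ, ?_, fun x hx => ?_⟩
    · have hv : (Nat.card H).factorization p = (Nat.card (H ⧸ Z)).factorization p + j := by
        rw [Subgroup.card_eq_card_quotient_mul_card_subgroup Z,
          Nat.factorization_mul Nat.card_pos.ne' Nat.card_pos.ne', Finsupp.add_apply, hZ,
          hpp.factorization_pow, Finsupp.single_eq_same]
      have h1 : sInf ((fun ψ : IrrCharacter (H ⧸ Z) => (charDegree (ψ : H ⧸ Z → ℂ)).factorization p) '' bq)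
          ≤ (charDegree (φ : H ⧸ Z → ℂ)).factorization p := Nat.sInf_le ⟨φ, hφ, rfl⟩
      have h2 : sInf ((fun ψ : IrrCharacter H => (charDegree (ψ : H → ℂ)).factorization p) '' b)
          ≤ (charDegree (Chars.inflate Z φ : H → ℂ)).factorization p :=
        Nat.sInf_le ⟨_, hsub φ hφ, rfl⟩
      have h3 : (charDegree (φ : H ⧸ Z → ℂ)).factorization p ≤
          (Nat.card (H ⧸ Z)).factorization p :=
        (Nat.factorization_le_iff_dvd (Blocks.exists_degree_eq φ).2.1 Nat.card_pos.ne').2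
          (Blocks.exists_degree_eq φ).2.2 p
      simp only [blockHeight, blockDefect, hdeg] at hφ0 hdd h2 ⊢
      omega
    · show (φ : H ⧸ Z → ℂ) (x : H ⧸ Z) = (φ : H ⧸ Z → ℂ) ((1 : H) : H ⧸ Z)
      rw [(QuotientGroup.eq_one_iff x).2 hx, QuotientGroup.mk_one]

end Quotient

end Cfsg.Agent.Lib.DefectBound
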