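import Mathlib
import Cfsg.Agent.Lib.BlockUnion.Quotient
import Cfsg.Agent.Lib.BrauerMap.CentralQuotient

/-!
# The block of the quotient by a central `p`-subgroup
-/

set_option autoImplicit false

namespace Cfsg.Agent.Lib.DefectBound

open Cfsg
open Cfsg.Agent.Lib
open Cfsg.Agent.Lib.Blocks
open Cfsg.Agent.Lib.BrauerMap (sameBlock_of_agree_pRegular exists_pRegular_lift centralChar_inflate_eq)

universe u

variable {H : Type u} [Group H] [Finite H] {p : ℕ} [Fact p.Prime] {M : Ideal AlgInt} [M.IsPrime]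

/-- The members of a block trivial on a central subgroup of order `p` come from one block of the
quotient, of defect one less. -/
theorem exists_quotient_block (hM : IsPModular p M) (Z : Subgroup H) [Z.Normal]
    (hZc : Z ≤ Subgroup.center H) (hZ : Nat.card Z = p) {b : Set (IrrCharacter H)}
    (hb : IsPBlock M b) :
    ∃ bq : Set (IrrCharacter (H ⧸ Z)), IsPBlock M bq ∧
      blockDefect p bq + 1 = blockDefect p b ∧
      Nat.card {χ : IrrCharacter H // χ ∈ b ∧ ∀ x ∈ Z, (χ : H → ℂ) x = (χ : H → ℂ) 1} ≤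
        Nat.card bq := by
  have hpp : p.Prime := Fact.out
  have hZp : IsPGroup p Z := IsPGroup.of_card (n := 1) (by rw [hZ, pow_one])
  have hsup : Z ⊔ Subgroup.centralizer (Z : Set H) = ⊤ := by
    refine eq_top_iff.2 fun x _ => Subgroup.mem_sup_right (Subgroup.mem_centralizer_iff.2 ?_)
    exact fun w hw => (Subgroup.mem_center_iff.1 (hZc hw) x).symm
  obtain ⟨bq, hbq, hsub, hdef⟩ := BlockUnion.exists_block_quot Z hM hZp hb
  refine ⟨bq, hbq, ?_, ?_⟩
  · obtain ⟨g, hg⟩ := isDefectClass_exists hb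
    obtain ⟨P, hP⟩ := exists_isClassDefect (p := p) g
    have hPd : IsDefectGroup p M b P := isDefectGroup_iff.2 ⟨g, hg, hP⟩
    have hZP : Z ≤ P := normal_le_defectGroup hM hZp hb hPd
    have hQd : IsDefectGroup p M bq (P.map (QuotientGroup.mk' Z)) := (hdef _).2 ⟨P, hPd, rfl⟩
    refine Nat.pow_right_injective hpp.two_le ?_
    show p ^ (blockDefect p bq + 1) = p ^ blockDefect p b
    rw [pow_succ, ← card_defectGroup hM hbq hQd, ← card_defectGroup hM hb hPd]
    set φ := (QuotientGroup.mk' Z).comp P.subtype with hφ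
    have hrange : φ.range = P.map (QuotientGroup.mk' Z) := by
      rw [hφ, MonoidHom.range_comp, Subgroup.range_subtype]
    have hker : φ.ker = Z.subgroupOf P := by
      rw [hφ, ← MonoidHom.comap_ker, QuotientGroup.ker_mk']
      rfl
    rw [← Subgroup.card_mul_index φ.ker, Subgroup.index_ker, hrange, hker,
      Nat.card_congr (Subgroup.subgroupOfEquivOfLe hZP).toEquiv, hZ, mul_comm]
  · obtain ⟨φ₀, hφ₀⟩ := isPBlock_nonempty hbq
    have key : ∀ χ : {χ : IrrCharacter H // χ ∈ b ∧ ∀ x ∈ Z, (χ : H → ℂ) x = (χ : H → ℂ) 1},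
        ∃ ψ : bq, Chars.inflate Z (ψ : IrrCharacter (H ⧸ Z)) = χ.1 := by
      rintro ⟨χ, hχ, hker⟩
      obtain ⟨ψ, hψ⟩ := Chars.exists_irr_quotient Z χ hker
      have he : Chars.inflate Z ψ = χ := Subtype.ext (funext hψ)
      refine ⟨⟨ψ, mem_of_sameBlock hbq hφ₀ ?_⟩, he⟩
      refine sameBlock_of_agree_pRegular hM fun q hq => ?_
      obtain ⟨g, hg, rfl⟩ := exists_pRegular_lift hZp hq
      rw [← centralChar_inflate_eq hZp hsup _ hg, ← centralChar_inflate_eq hZp hsup _ hg]
      exact sameBlock_of_mem hb (hsub φ₀ hφ₀) (he.symm ▸ hχ) g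
    choose f hf using key
    refine Nat.card_le_card_of_injective f fun a c hac => Subtype.ext ?_
    rw [← hf a, ← hf c, hac]

end Cfsg.Agent.Lib.DefectBound
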