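import Mathlib
import Cfsg.Agent.Lib.Contrib.Family
import Cfsg.Agent.Lib.Blocks.BlockOrth

/-!
# The rows of a block of the centralizer that are trivial on the section element
-/

set_option autoImplicit false

namespace Cfsg.Agent.Lib.DefectBound

open Cfsg
open Cfsg.Agent.Lib
open Cfsg.Agent.Lib.Blocks
open Cfsg.Agent.Lib.Contrib
open Cfsg.Agent.Lib.BrauerFeit (regCoef)
open scoped ComplexConjugate

attribute [local instance] Classical.propDecidable

universe u

theorem pow_dvd_det_of_outer {l : ℕ} {p : ℤ} (hp : p ≠ 0) (α β : Fin l → ℤ)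
    (R : Matrix (Fin l) (Fin l) ℤ) :
    p ^ (l - 1) ∣ (p • R + Matrix.of fun a c => α a * β c).det := by
  rcases Nat.eq_zero_or_pos l with rfl | hl
  · simp
  let Bm : Matrix Unit (Fin l) ℤ := Matrix.of fun _ c => -β c
  let Cm : Matrix (Fin l) Unit ℤ := Matrix.of fun a _ => α a
  have h1 : (Matrix.fromBlocks 1 Bm Cm (p • R)).det =
      (p • R + Matrix.of fun a c => α a * β c).det := by
    rw [Matrix.det_fromBlocks_one₁₁]
    congr 1
    ext a c
    simp [Bm, Cm, Matrix.mul_apply, sub_eq_add_neg]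
  have h2 : Matrix.fromBlocks 1 Bm Cm (p • R) *
      Matrix.fromBlocks (p • (1 : Matrix Unit Unit ℤ)) 0 0 1 =
      Matrix.fromBlocks 1 0 0 (p • (1 : Matrix (Fin l) (Fin l) ℤ)) *
        Matrix.fromBlocks (p • (1 : Matrix Unit Unit ℤ)) Bm Cm R := by
    rw [Matrix.fromBlocks_multiply, Matrix.fromBlocks_multiply]
    simp only [Matrix.one_mul, Matrix.mul_one, Matrix.zero_mul, Matrix.mul_zero, Matrix.mul_smul,
      Matrix.smul_mul, smul_zero, add_zero, zero_add]
  have h3 := congrArg Matrix.det h2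
  rw [Matrix.det_mul, Matrix.det_mul, Matrix.det_fromBlocks_zero₁₂, Matrix.det_fromBlocks_zero₁₂,
    h1] at h3
  simp only [Matrix.det_smul, Matrix.det_one, Fintype.card_unit, Fintype.card_fin, pow_one,
    mul_one, one_mul] at h3
  obtain ⟨n, rfl⟩ : ∃ n, l = n + 1 := ⟨l - 1, by omega⟩
  refine ⟨(Matrix.fromBlocks (p • (1 : Matrix Unit Unit ℤ)) Bm Cm R).det,
    mul_right_cancel₀ hp (h3.trans ?_)⟩
  rw [Nat.add_sub_cancel, pow_succ]
  ring

theorem pow_dvd_det_of_minors {l p : ℕ} (hp : p.Prime) (Q : Fin l → Fin l → ℤ)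
    (h : ∀ a b c e, (p : ℤ) ∣ Q a c * Q b e - Q a e * Q b c) :
    (p : ℤ) ^ (l - 1) ∣ (Matrix.of Q).det := by
  have hp0 : (p : ℤ) ≠ 0 := by exact_mod_cast hp.ne_zero
  by_cases hall : ∀ a c, (p : ℤ) ∣ Q a c
  · choose R hR using hall
    have e : Matrix.of Q = (p : ℤ) • Matrix.of R := by
      ext a c
      simp [hR a c]
    rw [e, Matrix.det_smul, Fintype.card_fin]
    exact (pow_dvd_pow _ (Nat.sub_le l 1)).trans (dvd_mul_right _ _)
  push Not at hall
  obtain ⟨a₀, c₀, hu⟩ := hall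
  choose R hR using fun a c => h a a₀ c c₀
  have e : Q a₀ c₀ • Matrix.of Q =
      (p : ℤ) • Matrix.of R + Matrix.of fun a c => Q a c₀ * Q a₀ c := by
    ext a c
    simp only [Matrix.smul_apply, Matrix.add_apply, Matrix.of_apply, smul_eq_mul, ← hR a c]
    ring
  have hd := pow_dvd_det_of_outer hp0 (fun a => Q a c₀) (fun c => Q a₀ c) (Matrix.of R)
  rw [← e, Matrix.det_smul] at hd
  refine IsCoprime.dvd_of_dvd_mul_left ?_ hd
  exact IsCoprime.pow (((Nat.prime_iff_prime_int.1 hp).coprime_iff_not_dvd.2 hu))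

variable {G : Type u} [Group G] [Fintype G] {p : ℕ} {M : Ideal AlgInt} [Fact p.Prime] [M.IsPrime]
  {C : Subgroup G} [Fintype C] {z : G} {j : ℕ} {b : Set (IrrCharacter C)} {B : Set (IrrCharacter G)}

/-- Twisting by a nontrivial power of the section element kills the regular orthogonality. -/
theorem sum_twist_eq_zero (hM : IsPModular p M) (hz : orderOf z = p ^ j)
    (hC : C = Subgroup.centralizer ({z} : Set G)) (hb : IsPBlock M b) {i : ℕ} (hi : ¬ p ^ j ∣ i)
    (ξ ξ' : IrrCharacter C) :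
    ∑ η ∈ b.toFinset, secScalar hC η ^ i * (regCoef p ξ η * regCoef p η ξ') = 0 := by
  classical
  set w : C := secElt hC ^ i with hw
  have hwc : w ∈ Subgroup.center C := Subgroup.pow_mem _ (secElt_mem_center hC) _
  have hzC : orderOf (secElt hC) = p ^ j := by rw [← Subgroup.orderOf_coe]; exact hz
  have hw1 : w ≠ 1 := fun h => hi (hzC ▸ orderOf_dvd_of_pow_eq_one (hw ▸ h))
  obtain ⟨k, -, hwo⟩ := (Nat.dvd_prime_pow hM.1).1 (hzC ▸ hw ▸ orderOf_pow_dvd (x := secElt hC) i)
  have hterm : ∀ η : IrrCharacter C, secScalar hC η ^ i * (regCoef p ξ η * regCoef p η ξ') =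
      ∑ s : C, ∑ t : C, (Nat.card C : ℂ)⁻¹ ^ 2 * pRegularPart p (ξ : C → ℂ) s *
        (if p ∣ orderOf t then 0 else conj ((ξ' : C → ℂ) t)) *
        ((η : C → ℂ) (t * w) * (η : C → ℂ) s⁻¹) := by
    intro η
    simp only [regCoef, classInner, Finset.sum_mul, Finset.mul_sum]
    rw [Finset.sum_comm]
    refine Finset.sum_congr rfl fun s _ => Finset.sum_congr rfl fun t _ => ?_
    rw [CentralKernel.irr_mul_central η hwc, secScalar_pow, ← hw, Chars.irr_inv,
      BrauerFeit.pRegularPart_apply p (η : C → ℂ) t]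
    split_ifs
    · simp
    · ring
  rw [Finset.sum_congr rfl fun η _ => hterm η, Finset.sum_comm]
  refine Finset.sum_eq_zero fun s _ => ?_
  rw [Finset.sum_comm]
  refine Finset.sum_eq_zero fun t _ => ?_
  rw [← Finset.mul_sum]
  by_cases hs : p ∣ orderOf s
  · simp [BrauerFeit.pRegularPart_apply, hs]
  by_cases ht : p ∣ orderOf t
  · simp [ht]
  refine mul_eq_zero_of_right _ ?_
  have hcomm : Commute w t := (Subgroup.mem_center_iff.1 hwc t).symm
  have hpart : IsPPart p (t * w) w := ⟨t, hcomm.eq, hcomm, ⟨k, hwo⟩, ht⟩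
  have hne : ¬ IsConj w (1 : C) := fun hc => hw1 (isConj_one_left.1 hc)
  have h := block_orth hM hb hpart (isPPart_one_of_pRegular hs) hne
  rwa [finsum_mem_eq_toFinset_sum] at h

/-- The kernel rows carry a `p ^ j`-th of the idempotent. -/
theorem sum_kernel_regCoef (hM : IsPModular p M) (hz : orderOf z = p ^ j)
    (hC : C = Subgroup.centralizer ({z} : Set G)) (hb : IsPBlock M b) {ξ : IrrCharacter C}
    (hξ : ξ ∈ b) (ξ' : IrrCharacter C) :
    (p : ℂ) ^ j * ∑ η ∈ b.toFinset.filter (fun η => secScalar hC η = 1),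
      regCoef p ξ η * regCoef p η ξ' = regCoef p ξ ξ' := by
  classical
  have hz1 : z ^ p ^ j = 1 := by rw [← hz, pow_orderOf_eq_one]
  have hind : ∀ η : IrrCharacter C, ∑ i ∈ Finset.range (p ^ j), secScalar hC η ^ i =
      if secScalar hC η = 1 then (p : ℂ) ^ j else 0 := fun η => by
    split_ifs with h
    · simp [h]
    · rw [geom_sum_eq h, secScalar_pow_eq_one hC η hz1, sub_self, zero_div]
  calc (p : ℂ) ^ j * ∑ η ∈ b.toFinset.filter (fun η => secScalar hC η = 1),
        regCoef p ξ η * regCoef p η ξ'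
      = ∑ η ∈ b.toFinset, (∑ i ∈ Finset.range (p ^ j), secScalar hC η ^ i) *
          (regCoef p ξ η * regCoef p η ξ') := by
        rw [Finset.mul_sum, Finset.sum_filter]
        exact Finset.sum_congr rfl fun η _ => by rw [hind]; split_ifs <;> simp
    _ = ∑ i ∈ Finset.range (p ^ j), ∑ η ∈ b.toFinset,
          secScalar hC η ^ i * (regCoef p ξ η * regCoef p η ξ') := by
        simp only [Finset.sum_mul]
        exact Finset.sum_comm
    _ = _ := by
        rw [Finset.sum_eq_single 0]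
        · simp only [pow_zero, one_mul]
          exact BrauerFeit.sum_toFinset_regCoef_mul (BrauerFeit.regOrth hM) hb hξ
        · intro i hi hi0
          exact sum_twist_eq_zero hM hz hC hb
            (Nat.not_dvd_of_pos_of_lt (Nat.pos_of_ne_zero hi0) (Finset.mem_range.1 hi)) ξ ξ'
        · exact fun h => absurd (Finset.mem_range.2 (pow_pos hM.1.pos j)) h

/-- A lattice basis: the contributions are a quadratic form in `l` columns. -/
theorem exists_columns_rows (hM : IsPModular p M) (hz : orderOf z = p ^ j)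
    (hC : C = Subgroup.centralizer ({z} : Set G)) (hb : IsInducedBlock M C b B) :
    ∃ (l : ℕ) (Q A : Fin l → Fin l → ℤ) (X : IrrCharacter G → Fin l → ℕ → ℂ)
      (g : b → Fin l → ℤ),
      l = blockRank p b ∧ (∀ a c, Q a c = Q c a) ∧ (∀ a c, A a c = A c a) ∧
      (∀ a c, ∑ e, Q a e * A e c = if a = c then (p : ℤ) ^ blockDefect p b else 0) ∧
      (∀ v : Fin l → ℤ, 0 ≤ ∑ a, ∑ c, v a * A a c * v c) ∧
      (∃ (σ : Fin l → ℂ) (lam : ℂ), MemLocalRing M lam ∧ (∀ a, MemLocalRing M (σ a)) ∧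
        ∀ a c, MemLocalIdeal M ((Q a c : ℂ) - lam * σ a * σ c)) ∧
      (∀ χ a, IsCyc (theRoot p j) (X χ a)) ∧
      (∀ t, ¬ p ∣ t → ∀ χ ψ, (p : ℂ) ^ blockDefect p b * contrib p (z ^ t) b χ ψ =
        ∑ a, ∑ c, X χ a t * (Q a c : ℂ) * conj (X ψ c t)) ∧
      (∀ t, ¬ p ∣ t → ∀ a c, ∑ χ ∈ B.toFinset, X χ a t * conj (X χ c t) = (A a c : ℂ)) ∧
      (∀ a c, A a c = ∑ i, g i a * g i c) ∧
      (∀ ξ η : b, (p : ℂ) ^ blockDefect p b * regCoef p (ξ : IrrCharacter C) η =
        ((∑ a, ∑ c, g ξ a * Q a c * g η c : ℤ) : ℂ)) ∧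
      (∃ lam : ℂ, MemLocalRing M lam ∧ ¬ MemLocalIdeal M lam ∧ ∀ ξ η : b,
        MemLocalIdeal M (((∑ a, ∑ c, g ξ a * Q a c * g η c : ℤ) : ℂ) -
          lam * (((ξ : IrrCharacter C) : C → ℂ) 1 / (p : ℂ) ^ minExp p b) *
            (((η : IrrCharacter C) : C → ℂ) 1 / (p : ℂ) ^ minExp p b))) ∧
      (∃ s : Fin l → b → ℤ, ∀ a c, Q a c =
        ∑ ξ, ∑ η, s a ξ * s c η * ∑ a', ∑ c', g ξ a' * Q a' c' * g η c') := by
  obtain ⟨N, mu, hN, hmuR, hmuU, hmu⟩ := exists_intMatrix hM hb.1
  have hsym : ∀ ξ η : b, N ξ η = N η ξ := fun ξ η => by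
    have : (N ξ η : ℂ) = N η ξ := by rw [hN ξ ξ.2 η, hN η η.2 ξ, BrauerFeit.regCoef_comm]
    exact_mod_cast this
  have hsubB : ∀ f : IrrCharacter C → ℂ, ∑ η : b, f η = ∑ η ∈ b.toFinset, f η := fun f =>
    (Finset.sum_subtype b.toFinset (fun x => Set.mem_toFinset) f).symm
  have hidem : ∀ ξ ζ : b, ∑ η : b, N ξ η * N η ζ = (p : ℤ) ^ blockDefect p b * N ξ ζ := fun ξ ζ => by
    have : ((∑ η : b, N ξ η * N η ζ : ℤ) : ℂ) = (((p : ℤ) ^ blockDefect p b * N ξ ζ : ℤ) : ℂ) := by
      push_cast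
      rw [hN ξ ξ.2 ζ, ← BrauerFeit.sum_toFinset_regCoef_mul (BrauerFeit.regOrth hM) hb.1
        (φ := (ζ : IrrCharacter C)) ξ.2, Finset.mul_sum, Finset.mul_sum,
        hsubB fun η => (N ξ η : ℂ) * (N η ζ : ℂ)]
      refine Finset.sum_congr rfl fun η hη => ?_
      rw [hN ξ ξ.2 η, hN η (Set.mem_toFinset.1 hη) ζ]
      ring
    exact_mod_cast this
  obtain ⟨l, g, s, Q, hQsym, hQs, hNQ, hQA, htr⟩ :=
    exists_factor (fun ξ η : b => N ξ η) _ hsym hidem
  let A : Fin l → Fin l → ℤ := fun a c => ∑ i, g i a * g i c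
  have hA : ∀ a c, ∑ e, Q a e * A e c = if a = c then (p : ℤ) ^ blockDefect p b else 0 := hQA
  have hAsym : ∀ a c, A a c = A c a := fun a c => Finset.sum_congr rfl fun i _ => mul_comm _ _
  have hpd : (p : ℂ) ^ blockDefect p b ≠ 0 := pow_ne_zero _ (Nat.cast_ne_zero.2 hM.1.ne_zero)
  have hAQ : ∀ a c, ∑ e, (A a e : ℂ) * (Q e c : ℂ) =
      if a = c then (p : ℂ) ^ blockDefect p b else 0 := fun a c => by
    have : (∑ e, A a e * Q e c : ℤ) = if a = c then (p : ℤ) ^ blockDefect p b else 0 := by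
      rw [if_congr (eq_comm (a := a)) rfl rfl, ← hA c a]
      exact Finset.sum_congr rfl fun e _ => by rw [hQsym e c, hAsym a e, mul_comm]
    exact_mod_cast this
  let X : IrrCharacter G → Fin l → ℕ → ℂ := fun χ a t => ∑ η : b,
    classInner (fun c : C => (χ : G → ℂ) c) ((η : IrrCharacter C) : C → ℂ) *
      secScalar hC η ^ t * (g η a : ℂ)
  refine ⟨l, Q, A, X, g, ?_, hQsym, hAsym, hA, fun v => ?_, ⟨fun a => ∑ i, (s a i : ℂ) *
    (((i : IrrCharacter C) : C → ℂ) 1 / (p : ℂ) ^ minExp p b), mu, hmuR, fun a => mem_localRing.1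
      (sum_mem fun i _ => mul_mem (intCast_mem_localRing _) (mem_localRing.2 (degree_div_mem hM i.2))),
    fun a c => ?_⟩, fun χ a => ?_,
    fun t ht χ ψ => ?_, fun t ht a c => ?_, fun a c => rfl, fun ξ η => ?_,
    ⟨mu, hmuR, hmuU, fun ξ η => ?_⟩, ⟨s, fun a c => ?_⟩⟩
  · have h1 : ((∑ i : b, N i i : ℤ) : ℂ) = (((p : ℤ) ^ blockDefect p b * l : ℤ) : ℂ) := by
      exact_mod_cast htr
    push_cast at h1
    rw [hsubB fun η => (N η η : ℂ), Finset.sum_congr rfl fun η hη => hN η (Set.mem_toFinset.1 hη) η,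
      ← Finset.mul_sum, ← BrauerFeit.blockRank_eq_sum_regCoef hM hb.1] at h1
    exact_mod_cast (mul_left_cancel₀ hpd h1).symm
  · have : ∑ a, ∑ c, v a * A a c * v c = ∑ i, (∑ a, v a * g i a) ^ 2 := by
      simp only [A, sq, Finset.mul_sum, Finset.sum_mul]
      rw [Finset.sum_comm]
      conv_rhs => rw [Finset.sum_comm]
      refine Finset.sum_congr rfl fun a _ => ?_
      rw [Finset.sum_comm]
      exact Finset.sum_congr rfl fun i _ => Finset.sum_congr rfl fun c _ => by ring
    rw [this]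
    exact Finset.sum_nonneg fun i _ => sq_nonneg _
  · rw [hQs]
    push_cast
    rw [mul_assoc, Finset.sum_mul_sum, Finset.mul_sum, ← Finset.sum_sub_distrib]
    refine memLocalIdeal_sum _ _ fun i _ => ?_
    rw [Finset.mul_sum, ← Finset.sum_sub_distrib]
    refine memLocalIdeal_sum _ _ fun i' _ => ?_
    have h := memLocalIdeal_mul_left (mem_localRing.1 (mul_mem
      (intCast_mem_localRing (M := M) (s a i)) (intCast_mem_localRing (M := M) (s c i'))))
      (hmu i i.2 i' i'.2)
    convert h using 1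
    ring
  · exact IsCyc.sum _ fun η _ => (isCyc_secMult hz hC χ η).mul (IsCyc.intCast _)
  · rw [← famFun_eq hM hz hC hb.1 hN χ ψ ht, famFun, ← hsubB fun η => ∑ η' ∈ b.toFinset,
      classInner (fun c : C => (χ : G → ℂ) c) (η : C → ℂ) * secScalar hC η ^ t *
      conj (classInner (fun c : C => (ψ : G → ℂ) c) (η' : C → ℂ) * secScalar hC η' ^ t) *
      (N η η' : ℂ)]
    simp only [X, map_sum, Finset.sum_mul, Finset.mul_sum]
    rw [sum_comm_four]
    conv_rhs => rw [Finset.sum_comm]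
    refine Finset.sum_congr rfl fun η _ => ?_
    rw [← hsubB fun η' => classInner (fun c : C => (χ : G → ℂ) c) ((η : IrrCharacter C) : C → ℂ) *
      secScalar hC η ^ t *
      conj (classInner (fun c : C => (ψ : G → ℂ) c) (η' : C → ℂ) * secScalar hC η' ^ t) *
      (N η η' : ℂ)]
    refine Finset.sum_congr rfl fun η' _ => ?_
    rw [hNQ η η']
    push_cast
    simp only [Finset.mul_sum]
    refine Finset.sum_congr rfl fun a _ => Finset.sum_congr rfl fun c _ => ?_
    simp only [map_mul, map_intCast]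
    ring
  · have hC' := eq_centralizer_pow hz hC ht
    have hXW : ∀ χ : IrrCharacter G, ∀ a,
        X χ a t = ∑ ξ : b, secCoef p (z ^ t) χ (ξ : IrrCharacter C) * (g ξ a : ℂ) := by
      intro χ a
      have hw : ∀ ξ : b, (p : ℂ) ^ blockDefect p b * secCoef p (z ^ t) χ (ξ : IrrCharacter C) =
          ∑ a', ∑ c', X χ a' t * (Q a' c' : ℂ) * (g ξ c' : ℂ) := by
        intro ξ
        rw [secCoef_eq_block hM hC' hb.1 χ ξ.2, Finset.mul_sum,
          ← hsubB fun η => (p : ℂ) ^ blockDefect p b * (secMult hC' χ η * regCoef p η ξ)]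
        simp only [X, Finset.sum_mul]
        rw [Finset.sum_congr rfl fun a' _ => Finset.sum_comm, Finset.sum_comm]
        refine Finset.sum_congr rfl fun η _ => ?_
        rw [mul_left_comm, ← hN η η.2 ξ, hNQ η ξ, secMult, secScalar_of_pow hz hC ht]
        push_cast
        simp only [Finset.mul_sum]
        exact Finset.sum_congr rfl fun a' _ => Finset.sum_congr rfl fun c' _ => by ring
      refine mul_left_cancel₀ hpd ?_
      conv_rhs => rw [Finset.mul_sum]
      conv_rhs => arg 2; ext ξ; rw [← mul_assoc, hw ξ]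
      simp only [Finset.sum_mul]
      rw [Finset.sum_comm, Finset.sum_congr rfl fun a' _ => Finset.sum_comm]
      rw [Finset.sum_eq_single a]
      · rw [Finset.sum_congr rfl (g := fun c' => X χ a t * ((Q a c' : ℂ) * (A c' a : ℂ))) fun c' _ => ?_,
          ← Finset.mul_sum]
        · have := hA a a
          rw [if_pos rfl] at this
          have h2 : ∑ e, (Q a e : ℂ) * (A e a : ℂ) = (p : ℂ) ^ blockDefect p b := by exact_mod_cast this
          rw [h2, mul_comm]
        · simp only [A, Int.cast_sum, Int.cast_mul, Finset.mul_sum]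
          exact Finset.sum_congr rfl fun ξ _ => by ring
      · intro a' _ hne
        rw [Finset.sum_congr rfl (g := fun c' => X χ a' t * ((Q a' c' : ℂ) * (A c' a : ℂ))) fun c' _ => ?_,
          ← Finset.mul_sum]
        · have := hA a' a
          rw [if_neg hne] at this
          have h2 : ∑ e, (Q a' e : ℂ) * (A e a : ℂ) = 0 := by exact_mod_cast this
          rw [h2, mul_zero]
        · simp only [A, Int.cast_sum, Int.cast_mul, Finset.mul_sum]
          exact Finset.sum_congr rfl fun ξ _ => by ring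
      · exact fun h => absurd (Finset.mem_univ _) h
    have hzero : ∀ χ, χ ∉ B → ∀ a, X χ a t = 0 := fun χ hχ a => by
      rw [hXW]
      exact Finset.sum_eq_zero fun ξ _ => by
        rw [secCoef_eq_zero hM ⟨j, orderOf_pow_prime hz ht⟩ hC' hb hχ ξ.2, zero_mul]
    rw [Finset.sum_subset (Finset.subset_univ B.toFinset) fun χ _ hχ => by
      rw [hzero χ (by simpa using hχ) a, zero_mul]]
    calc ∑ χ : IrrCharacter G, X χ a t * conj (X χ c t)
        = ∑ χ : IrrCharacter G, ∑ ξ : b, ∑ ξ' : b, (g ξ a : ℂ) * (g ξ' c : ℂ) *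
            (secCoef p (z ^ t) χ (ξ : IrrCharacter C) * conj (secCoef p (z ^ t) χ (ξ' : IrrCharacter C))) := by
          refine Finset.sum_congr rfl fun χ _ => ?_
          rw [hXW χ a, hXW χ c, map_sum, Finset.sum_mul_sum]
          refine Finset.sum_congr rfl fun ξ _ => Finset.sum_congr rfl fun ξ' _ => ?_
          rw [map_mul, map_intCast]
          ring
      _ = ∑ ξ : b, ∑ ξ' : b, (g ξ a : ℂ) * (g ξ' c : ℂ) * regCoef p (ξ' : IrrCharacter C) ξ := by
          rw [Finset.sum_comm]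
          refine Finset.sum_congr rfl fun ξ _ => ?_
          rw [Finset.sum_comm]
          refine Finset.sum_congr rfl fun ξ' _ => ?_
          rw [← Finset.mul_sum, sum_secCoef_mul_conj hM ⟨j, orderOf_pow_prime hz ht⟩ hC']
      _ = (A a c : ℂ) := by
          refine mul_left_cancel₀ hpd ?_
          simp only [Finset.mul_sum]
          calc ∑ ξ : b, ∑ ξ' : b, (p : ℂ) ^ blockDefect p b *
                ((g ξ a : ℂ) * (g ξ' c : ℂ) * regCoef p (ξ' : IrrCharacter C) ξ)
              = ∑ ξ : b, ∑ ξ' : b, ∑ a', ∑ c', (g ξ a : ℂ) * (g ξ a' : ℂ) * (Q a' c' : ℂ) *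
                  ((g ξ' c' : ℂ) * (g ξ' c : ℂ)) := by
                refine Finset.sum_congr rfl fun ξ _ => Finset.sum_congr rfl fun ξ' _ => ?_
                rw [mul_left_comm, ← hN ξ' ξ'.2 ξ, hsym ξ' ξ, hNQ ξ ξ']
                push_cast
                simp only [Finset.mul_sum]
                exact Finset.sum_congr rfl fun a' _ => Finset.sum_congr rfl fun c' _ => by ring
            _ = ∑ a', ∑ c', (A a a' : ℂ) * (Q a' c' : ℂ) * (A c' c : ℂ) := by
                rw [Finset.sum_congr rfl fun ξ _ => Finset.sum_comm,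
                  Finset.sum_comm]
                refine Finset.sum_congr rfl fun a' _ => ?_
                rw [Finset.sum_congr rfl fun ξ _ => Finset.sum_comm, Finset.sum_comm]
                refine Finset.sum_congr rfl fun c' _ => ?_
                simp only [A, Int.cast_sum, Int.cast_mul, Finset.mul_sum, Finset.sum_mul]
                rw [Finset.sum_comm]
            _ = (p : ℂ) ^ blockDefect p b * (A a c : ℂ) := by
                rw [Finset.sum_comm, Finset.sum_congr rfl fun c' _ => by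
                  rw [← Finset.sum_mul, hAQ a c'], Finset.sum_eq_single a]
                · rw [if_pos rfl]
                · intro c' _ hne
                  rw [if_neg hne.symm, zero_mul]
                · exact fun h => absurd (Finset.mem_univ _) h
  · rw [← hN ξ ξ.2 η, hNQ ξ η]
  · rw [← hNQ ξ η]
    exact hmu ξ ξ.2 η η.2
  · rw [hQs]
    exact Finset.sum_congr rfl fun i _ => Finset.sum_congr rfl fun i' _ =>
      congrArg (s a i * s c i' * ·) (hNQ i i')

/-- The rows trivial on the section element have `A / p ^ j` as Gram matrix. -/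
theorem gram_kernel (hM : IsPModular p M) (hz : orderOf z = p ^ j)
    (hC : C = Subgroup.centralizer ({z} : Set G)) (hb : IsPBlock M b) {l : ℕ}
    {Q A : Fin l → Fin l → ℤ} {g : b → Fin l → ℤ} (hQsym : ∀ a c, Q a c = Q c a)
    (hA : ∀ a c, ∑ e, Q a e * A e c = if a = c then (p : ℤ) ^ blockDefect p b else 0)
    (hAg : ∀ a c, A a c = ∑ i, g i a * g i c)
    (hN : ∀ ξ η : b, (p : ℂ) ^ blockDefect p b * regCoef p (ξ : IrrCharacter C) η =
      ((∑ a, ∑ c, g ξ a * Q a c * g η c : ℤ) : ℂ)) (a c : Fin l) :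
    (p : ℤ) ^ j * ∑ i ∈ Finset.univ.filter (fun i : b => secScalar hC (i : IrrCharacter C) = 1),
      g i a * g i c = A a c := by
  classical
  set q : ℤ := (p : ℤ) ^ blockDefect p b with hq
  have hq0 : q ≠ 0 := pow_ne_zero _ (by exact_mod_cast hM.1.ne_zero)
  set Nn : b → b → ℤ := fun ξ η => ∑ a, ∑ c, g ξ a * Q a c * g η c with hNn
  set S := Finset.univ.filter (fun i : b => secScalar hC (i : IrrCharacter C) = 1) with hS
  have hAsym : ∀ a c, A a c = A c a := fun a c => by
    rw [hAg, hAg]; exact Finset.sum_congr rfl fun i _ => mul_comm _ _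
  have hAQ : ∀ a c, ∑ e, A a e * Q e c = if a = c then q else 0 := fun a c => by
    rw [if_congr (eq_comm (a := a)) rfl rfl, ← hA c a]
    exact Finset.sum_congr rfl fun e _ => by rw [hQsym e c, hAsym a e, mul_comm]
  have hgN : ∀ (a : Fin l) (η : b), ∑ ξ : b, g ξ a * Nn ξ η = q * g η a := by
    intro a η
    calc ∑ ξ : b, g ξ a * Nn ξ η = ∑ f, (∑ e, A a e * Q e f) * g η f := by
          simp only [hNn, Finset.mul_sum, hAg, Finset.sum_mul]
          rw [Finset.sum_comm]
          conv_rhs => rw [Finset.sum_comm]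
          refine Finset.sum_congr rfl fun e _ => ?_
          rw [Finset.sum_comm]
          exact Finset.sum_congr rfl fun f _ => Finset.sum_congr rfl fun ξ _ => by ring
      _ = q * g η a := by simp [hAQ]
  have hNsym : ∀ ξ η, Nn ξ η = Nn η ξ := fun ξ η => by
    simp only [hNn]
    rw [Finset.sum_comm]
    exact Finset.sum_congr rfl fun c _ => Finset.sum_congr rfl fun a _ => by rw [hQsym a c]; ring
  have hker : ∀ ξ ξ' : b, (p : ℤ) ^ j * ∑ η ∈ S, Nn ξ η * Nn η ξ' = q * Nn ξ ξ' := by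
    intro ξ ξ'
    have h : (((p : ℤ) ^ j * ∑ η ∈ S, Nn ξ η * Nn η ξ' : ℤ) : ℂ) = ((q * Nn ξ ξ' : ℤ) : ℂ) := by
      have hk := sum_kernel_regCoef hM hz hC hb ξ.2 (ξ' : IrrCharacter C)
      rw [Finset.sum_filter, Finset.sum_subtype b.toFinset (fun x => Set.mem_toFinset),
        ← Finset.sum_filter, ← hS] at hk
      simp only [Int.cast_mul, Int.cast_pow, Int.cast_sum, Int.cast_natCast]
      rw [show ((Nn ξ ξ' : ℤ) : ℂ) = _ from (hN ξ ξ').symm, ← hk,
        Finset.sum_congr rfl fun η _ => by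
          rw [show ((Nn ξ η : ℤ) : ℂ) = _ from (hN ξ η).symm,
            show ((Nn η ξ' : ℤ) : ℂ) = _ from (hN η ξ').symm]]
      simp only [hq, Int.cast_pow, Int.cast_natCast, Finset.mul_sum]
      exact Finset.sum_congr rfl fun η _ => by ring
    exact_mod_cast h
  refine mul_left_cancel₀ (mul_ne_zero hq0 hq0) ?_
  calc q * q * ((p : ℤ) ^ j * ∑ i ∈ S, g i a * g i c)
      = ∑ i ∈ S, (p : ℤ) ^ j * ((∑ ξ : b, g ξ a * Nn ξ i) * (∑ ξ' : b, g ξ' c * Nn ξ' i)) := by
        simp only [hgN, Finset.mul_sum]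
        exact Finset.sum_congr rfl fun i _ => by ring
    _ = ∑ ξ : b, ∑ ξ' : b, g ξ a * g ξ' c * ((p : ℤ) ^ j * ∑ i ∈ S, Nn ξ i * Nn i ξ') := by
        simp only [Finset.sum_mul, Finset.mul_sum]
        rw [Finset.sum_comm]
        conv_rhs => rw [Finset.sum_comm]
        refine Finset.sum_congr rfl fun ξ _ => ?_
        rw [Finset.sum_comm]
        exact Finset.sum_congr rfl fun ξ' _ => Finset.sum_congr rfl fun i _ => by
          rw [hNsym i ξ]; ring
    _ = q * ∑ ξ' : b, g ξ' c * ∑ ξ : b, g ξ a * Nn ξ ξ' := by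
        simp only [hker, Finset.mul_sum]
        rw [Finset.sum_comm]
        exact Finset.sum_congr rfl fun ξ' _ => Finset.sum_congr rfl fun ξ _ => by ring
    _ = q * q * A a c := by
        simp only [hgN, hAg, Finset.mul_sum]
        exact Finset.sum_congr rfl fun ξ _ => by ring

end Cfsg.Agent.Lib.DefectBound
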