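import Mathlib
import Cfsg.Agent.Lib.DefectBound.FormMin
import Cfsg.Agent.Lib.DefectBound.Rows
import Cfsg.Agent.Lib.DefectBound.Cyclo
import Cfsg.Agent.Lib.DefectBound.Quotient
import Cfsg.Agent.Lib.Contrib.MajorCount
import Cfsg.Agent.Lib.BrauerPairs.Local
import Cfsg.Agent.Lib.BrauerPairs.Fusion
import Cfsg.Agent.Lib.BrauerPairs.KernelCore
import Cfsg.Agent.Lib.BrauerPairs.Block
import Cfsg.Agent.Lib.Star.Nonvanish

/-!
# The number of characters of a block of given defect

`k ≤ p ^ d` for `d ≤ 2` and `k ≤ p ^ (2 d - 2)` for `d ≥ 3`.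
-/

set_option autoImplicit false

namespace Cfsg.Agent.Lib.DefectBound

open Cfsg
open Cfsg.Agent.Lib
open Cfsg.Agent.Lib.Blocks
open Cfsg.Agent.Lib.Contrib
open Cfsg.Agent.Lib.BrauerFeit (regCoef)
open scoped ComplexConjugate

attribute [local instance] Classical.propDecidable

universe u

theorem arith_bound {p P s T : ℕ} (hp : 2 ≤ p) (hs : 0 < s) (h1 : s * (s + p ^ 2 * T) ≤ P ^ 2)
    (h2 : 4 * (s + p ^ 2 * T) ≤ p ^ 2 * P + 4) : s + T ≤ P := by
  have hp2 : 4 ≤ p ^ 2 := by nlinarith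
  rcases Nat.lt_or_ge (4 * s) (3 * P) with hlt | hge
  · have h3 : p ^ 2 * (4 * T) ≤ p ^ 2 * P := by nlinarith
    have h4 : 4 * T ≤ P := Nat.le_of_mul_le_mul_left h3 (by omega)
    omega
  · have hsP : s ≤ P := by
      by_contra hcon
      have : P ^ 2 < s * s := by rw [sq]; exact Nat.mul_lt_mul'' (by omega) (by omega)
      rw [Nat.mul_add] at h1
      omega
    obtain ⟨k, rfl⟩ := Nat.le.dest hsP
    rcases Nat.lt_or_ge k T with hk | hk
    · exfalso
      nlinarith [Nat.mul_le_mul_right (s * T) hp2]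
    · omega

section Major

variable {G : Type u} [Group G] [Fintype G] {p : ℕ} {M : Ideal AlgInt} [Fact p.Prime] [M.IsPrime]
  {C : Subgroup G} [Fintype C] {z : G} {b : Set (IrrCharacter C)} {B : Set (IrrCharacter G)}

theorem height_eq_zero_of_defect_le_two (hM : IsPModular p M) {K : Type u} [Group K] [Fintype K]
    {e : Set (IrrCharacter K)} (he : IsPBlock M e) (hd : blockDefect p e ≤ 2)
    {η : IrrCharacter K} (hη : η ∈ e) : blockHeight p e (η : K → ℂ) = 0 := by
  by_contra h
  have := (BrauerFeit.card_heightZero_mul_le hM (BrauerFeit.regOrth hM) (BrauerFeit.regGen p) he hη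
    h).2
  omega

/-- Blocks with a major subsection of defect at most two. -/
theorem card_le_of_defect_le_two (hM : IsPModular p M) (hz : orderOf z = p)
    (hC : C = Subgroup.centralizer ({z} : Set G)) (hb : IsInducedBlock M C b B)
    (hmaj : blockDefect p b = blockDefect p B) (hd0 : 0 < blockDefect p B)
    (hd : blockDefect p B ≤ 2) : Nat.card B ≤ p ^ blockDefect p B := by
  classical
  have hp := hM.1
  have hz' : orderOf z = p ^ 1 := by rw [pow_one, hz]
  haveI : NeZero (p ^ (1 + 1)) := ⟨pow_ne_zero _ hp.ne_zero⟩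
  obtain ⟨l, Q, A, X, g, hl, hQ, hA, hQA, -, ⟨σ, mu, hmuR, hσR, hσ⟩, hX, hform, hsum, hAg, hN,
    ⟨lam, hlamR, hlamU, hlam⟩, -⟩ := exists_columns_rows hM hz' hC hb
  obtain ⟨F, lam', -, hF, -, -, -, hlR, hlU, hlam'⟩ := exists_family hM hz' hC hb
  obtain ⟨-, hne⟩ := major_facts hM hz' hC hb hmaj hF hlR hlU hlam'
  obtain ⟨ψ₀, hψ₀, h00⟩ := Blocks.exists_height_zero (p := p) hb.2.1
  have hrow : ∀ χ ∈ B, ∃ a, X χ a 1 ≠ 0 := fun χ hχ => by
    by_contra hno
    push Not at hno
    refine hne χ hχ ψ₀ hψ₀ h00 ?_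
    rw [hF χ ψ₀ 1 hp.not_dvd_one, hform 1 hp.not_dvd_one χ ψ₀]
    exact Finset.sum_eq_zero fun a _ => Finset.sum_eq_zero fun c _ => by
      rw [hno a, zero_mul, zero_mul]
  have hl0 : 0 < l := by
    obtain ⟨a, -⟩ := hrow ψ₀ hψ₀
    exact a.pos
  set S := Finset.univ.filter (fun i : b => secScalar hC (i : IrrCharacter C) = 1) with hS
  let g0 : S → Fin l → ℤ := fun i => g i
  set q : ℤ := (p : ℤ) ^ (blockDefect p b - 1) with hq
  have hpZ : (p : ℤ) ≠ 0 := by exact_mod_cast hp.ne_zero
  have hq0 : 0 < q := pow_pos (by exact_mod_cast hp.pos) _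
  have hqd : (p : ℤ) * q = (p : ℤ) ^ blockDefect p b := by
    rw [hq, ← pow_succ', Nat.sub_add_cancel (hmaj ▸ hd0)]
  have hgram := gram_kernel hM hz' hC hb.1 hQ hQA hAg hN
  have hQA0 : ∀ a c, ∑ e, Q a e * ∑ i : S, g0 i e * g0 i c = if a = c then q else 0 := fun a c => by
    refine mul_left_cancel₀ (pow_ne_zero 1 hpZ) ?_
    rw [Finset.mul_sum, Finset.sum_congr rfl (g := fun e => Q a e * A e c) fun e _ => ?_, hQA a c,
      mul_ite, mul_zero, pow_one, hqd]
    rw [← hgram e c, Finset.sum_coe_sort S fun i => g i e * g i c]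
    ring
  have hminor : ∀ a a' c c', (p : ℤ) ∣ Q a c * Q a' c' - Q a c' * Q a' c := by
    intro a a' c c'
    rw [← memLocalIdeal_intCast_iff hM]
    have hR : ∀ i k, MemLocalRing M (mu * σ i * σ k) := fun i k => mem_localRing.1
      (mul_mem (mul_mem (mem_localRing.2 hmuR) (mem_localRing.2 (hσR i))) (mem_localRing.2 (hσR k)))
    have hQR : ∀ i k, MemLocalRing M ((Q i k : ℂ)) := fun i k =>
      mem_localRing.1 (intCast_mem_localRing _)
    have h := memLocalIdeal_sub
      (memLocalIdeal_add (memLocalIdeal_mul_right (hσ a c) (hQR a' c'))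
        (memLocalIdeal_mul_left (hR a c) (hσ a' c')))
      (memLocalIdeal_add (memLocalIdeal_mul_right (hσ a c') (hQR a' c))
        (memLocalIdeal_mul_left (hR a c') (hσ a' c)))
    convert h using 1
    push_cast
    ring
  have hdvd := pow_dvd_det_of_minors hp Q hminor
  set A0 : Matrix (Fin l) (Fin l) ℤ := Matrix.of fun a c => ∑ i : S, g0 i a * g0 i c with hA0
  have hdet : (Matrix.of Q).det * A0.det = q ^ l := by
    rw [← Matrix.det_mul, show Matrix.of Q * A0 = q • (1 : Matrix (Fin l) (Fin l) ℤ) from ?_,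
      Matrix.det_smul, Matrix.det_one, mul_one, Fintype.card_fin]
    ext a c
    rw [Matrix.mul_apply, Matrix.smul_apply, Matrix.one_apply, smul_eq_mul, mul_ite, mul_one,
      mul_zero]
    exact hQA0 a c
  rcases Nat.lt_or_ge (blockDefect p B) 2 with h1 | h2
  · have hq1 : q = 1 := by rw [hq, show blockDefect p b - 1 = 0 by omega, pow_zero]
    rw [hq1, one_pow] at hdet
    have h1' := Int.le_of_dvd one_pos (hdvd.trans (Dvd.intro _ hdet))
    have hl1 : l ≤ 1 := by
      by_contra hcon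
      have : (1 : ℤ) < (p : ℤ) ^ (l - 1) :=
        one_lt_pow₀ (by exact_mod_cast hp.one_lt) (by omega)
      omega
    exact card_le_of_major_rank_le_two hM hz' hC hb hmaj (by omega)
  have hd2 : blockDefect p b = 2 := by omega
  have hqp : q = p := by rw [hq, hd2, pow_one]
  have hdetle : A0.det ≤ q := by
    obtain ⟨m, hm⟩ := hdvd
    rw [hm, hqp, show (p : ℤ) ^ l = (p : ℤ) ^ (l - 1) * p by
      rw [← pow_succ, Nat.sub_add_cancel hl0], mul_assoc] at hdet
    have h3 := mul_left_cancel₀ (pow_ne_zero _ hpZ) hdet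
    rw [hqp]
    exact Int.le_of_dvd (by exact_mod_cast hp.pos) (Dvd.intro_left m h3)
  have hloop : ∀ i : S, ∀ y : Fin l → ℝ, (∀ j : S, j ≠ i → ∑ a, (g0 j a : ℝ) * y a = 0) →
      ∑ a, (g0 i a : ℝ) * y a = 0 := by
    intro i y hy
    by_contra hne0
    -- the diagonal entry would be divisible by `p`
    have hself : ∑ e, ∑ f, g0 i e * Q e f * g0 i f = q := by
      have h : (∑ a, (g0 i a : ℝ) * y a) * ((∑ e, ∑ f, g0 i e * Q e f * g0 i f : ℤ) : ℝ) =
          (∑ a, (g0 i a : ℝ) * y a) * (q : ℝ) := by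
        calc (∑ a, (g0 i a : ℝ) * y a) * ((∑ e, ∑ f, g0 i e * Q e f * g0 i f : ℤ) : ℝ)
            = ∑ j : S, (∑ a, (g0 j a : ℝ) * y a) *
                ((∑ e, ∑ f, g0 i e * Q e f * g0 j f : ℤ) : ℝ) :=
              (Finset.sum_eq_single (f := fun j : S => (∑ a, (g0 j a : ℝ) * y a) *
                  ((∑ e, ∑ f, g0 i e * Q e f * g0 j f : ℤ) : ℝ)) i
                (fun j _ hj => by rw [hy j hj, zero_mul])
                (fun h => absurd (Finset.mem_univ i) h)).symm
          _ = ∑ a, ∑ e, y a * (g0 i e : ℝ) *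
                ((∑ f, Q e f * ∑ j : S, g0 j f * g0 j a : ℤ) : ℝ) := by
              push_cast
              simp only [Finset.sum_mul, Finset.mul_sum]
              rw [Finset.sum_comm]
              conv_rhs => rw [Finset.sum_comm]
              refine Finset.sum_congr rfl fun a _ => ?_
              rw [Finset.sum_comm]
              conv_rhs => rw [Finset.sum_comm]
              refine Finset.sum_congr rfl fun e _ => ?_
              rw [Finset.sum_comm]
              exact Finset.sum_congr rfl fun f _ => Finset.sum_congr rfl fun j _ => by ring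
          _ = _ := by
              simp only [hQA0, Finset.sum_mul]
              refine Finset.sum_congr rfl fun a _ => ?_
              rw [Finset.sum_eq_single a (fun e _ he => by rw [if_neg he, Int.cast_zero, mul_zero])
                (fun h => absurd (Finset.mem_univ a) h), if_pos rfl]
              ring
      exact_mod_cast mul_left_cancel₀ hne0 h
    have hη : ((i : b) : IrrCharacter C) ∈ b := (i : b).2
    have hu := degree_div_not_mem hM hη
      (height_eq_zero_of_defect_le_two hM hb.1 (by omega) hη)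
    have huR := degree_div_mem hM hη
    refine not_memLocalIdeal_mul (mem_localRing.1 (mul_mem (mem_localRing.2 hlamR)
      (mem_localRing.2 huR))) huR (not_memLocalIdeal_mul hlamR huR hlamU hu) hu ?_
    have h := hlam (i : b) (i : b)
    rw [show (∑ a, ∑ c, g (i : b) a * Q a c * g (i : b) c) = q from hself, hqp, Int.cast_natCast]
      at h
    simpa using memLocalIdeal_sub ((memLocalIdeal_natCast_iff hM p).2 dvd_rfl) h
  have hmin : ∀ x : Fin l → ℤ, x ≠ 0 → (l : ℤ) ≤ ∑ a, ∑ c, x a * Q a c * x c :=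
    fun x hx => le_form g0 Q hq0 hQA0 hdetle hloop hx
  have hζ := isPrimitiveRoot_theRoot p 1
  set U := primResidues p (1 + 1) with hU
  have hUt : ∀ t ∈ U, ¬ p ∣ t := fun t ht => (Finset.mem_filter.1 ht).2
  have hchi : ∀ χ ∈ B.toFinset, (U.card : ℝ) * ((l : ℤ) : ℝ) ≤
      (∑ t ∈ U, ∑ a, ∑ c, X χ a t * (Q a c : ℂ) * conj (X χ c t)).re := fun χ hχ =>
    card_mul_le_form hp (Nat.succ_pos 1) hζ g0 Q hq0 hQ hQA0 hmin (X χ) (hX χ)
      (hrow χ (Set.mem_toFinset.1 hχ))
  have htot : ∑ χ ∈ B.toFinset, (∑ t ∈ U, ∑ a, ∑ c, X χ a t * (Q a c : ℂ) * conj (X χ c t)).re =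
      (U.card : ℝ) * ((p : ℝ) ^ blockDefect p b * l) := by
    have h : ∑ χ ∈ B.toFinset, ∑ t ∈ U, ∑ a, ∑ c, X χ a t * (Q a c : ℂ) * conj (X χ c t) =
        (((U.card : ℝ) * ((p : ℝ) ^ blockDefect p b * l) : ℝ) : ℂ) := by
      rw [Finset.sum_comm, Finset.sum_congr rfl (g := fun _ => ((p : ℂ) ^ blockDefect p b * l))
        fun t ht => ?_, Finset.sum_const, nsmul_eq_mul]
      · push_cast; rfl
      · calc ∑ χ ∈ B.toFinset, ∑ a, ∑ c, X χ a t * (Q a c : ℂ) * conj (X χ c t)
            = ∑ a, ∑ c, (Q a c : ℂ) * (A c a : ℂ) := by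
              rw [Finset.sum_comm]
              refine Finset.sum_congr rfl fun a _ => ?_
              rw [Finset.sum_comm]
              refine Finset.sum_congr rfl fun c _ => ?_
              rw [hA c a, ← hsum t (hUt t ht) a c, Finset.mul_sum]
              exact Finset.sum_congr rfl fun χ _ => by ring
          _ = ∑ _a : Fin l, (p : ℂ) ^ blockDefect p b := Finset.sum_congr rfl fun a _ => by
              have := hQA a a
              rw [if_pos rfl] at this
              exact_mod_cast this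
          _ = _ := by simp [mul_comm]
    rw [← Complex.re_sum, h, Complex.ofReal_re]
  have hfin := (Finset.sum_le_sum hchi).trans_eq htot
  rw [Finset.sum_const, nsmul_eq_mul, Int.cast_natCast] at hfin
  have hUl : (0 : ℝ) < (U.card : ℝ) * l := mul_pos
    (by exact_mod_cast Finset.card_pos.2 ⟨1, one_mem_primResidues hp (Nat.succ_pos 1)⟩)
    (by exact_mod_cast hl0)
  have hres : (B.toFinset.card : ℝ) ≤ (p : ℝ) ^ blockDefect p b :=
    le_of_mul_le_mul_right (hfin.trans_eq (by ring)) hUl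
  rw [← hmaj, Nat.card_eq_card_toFinset]
  exact_mod_cast hres

/-- The rank is at most the number of members trivial on the section element. -/
theorem blockRank_le_kernel (hM : IsPModular p M) {j : ℕ} (hz : orderOf z = p ^ j)
    (hC : C = Subgroup.centralizer ({z} : Set G)) (hb : IsInducedBlock M C b B)
    (hjd : j ≤ blockDefect p b) :
    blockRank p b ≤ Nat.card {η : IrrCharacter C // η ∈ b ∧
      ∀ x ∈ Subgroup.zpowers (secElt hC), (η : C → ℂ) x = (η : C → ℂ) 1} := by
  classical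
  have hp := hM.1
  obtain ⟨l, Q, A, X, g, hl, hQ, hA, hQA, -, -, -, -, -, hAg, hN, -⟩ :=
    exists_columns_rows hM hz hC hb
  have hgram := gram_kernel hM hz hC hb.1 hQ hQA hAg hN
  set S := Finset.univ.filter (fun i : b => secScalar hC (i : IrrCharacter C) = 1) with hS
  let Nn : b → b → ℤ := fun ξ η => ∑ a, ∑ c, g ξ a * Q a c * g η c
  set q : ℤ := (p : ℤ) ^ (blockDefect p b - j) with hq
  have hpZ : (p : ℤ) ≠ 0 := by exact_mod_cast hp.ne_zero
  have hq0 : 0 < q := pow_pos (by exact_mod_cast hp.pos) _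
  have hqd : (p : ℤ) ^ j * q = (p : ℤ) ^ blockDefect p b := by
    rw [hq, ← pow_add, Nat.add_sub_cancel' hjd]
  have hQA0 : ∀ a c, ∑ e, Q a e * ∑ i ∈ S, g i e * g i c = if a = c then q else 0 := fun a c => by
    refine mul_left_cancel₀ (pow_ne_zero j hpZ) ?_
    rw [Finset.mul_sum, Finset.sum_congr rfl (g := fun e => Q a e * A e c) fun e _ => ?_, hQA a c,
      mul_ite, mul_zero, hqd]
    rw [← hgram e c]
    ring
  have hidem : ∀ i : b, ∑ j ∈ S, Nn i j * Nn i j = q * Nn i i := by
    intro i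
    calc ∑ j ∈ S, Nn i j * Nn i j
        = ∑ a, ∑ c, g i a * g i c * ∑ e, Q a e * ∑ f, (∑ j ∈ S, g j e * g j f) * Q c f := by
          simp only [Nn, Finset.sum_mul, Finset.mul_sum]
          rw [Finset.sum_comm]
          refine Finset.sum_congr rfl fun a _ => ?_
          rw [Finset.sum_comm, Finset.sum_congr rfl fun e _ => Finset.sum_comm, Finset.sum_comm]
          refine Finset.sum_congr rfl fun c _ => Finset.sum_congr rfl fun e _ => ?_
          rw [Finset.sum_comm]
          exact Finset.sum_congr rfl fun f _ => Finset.sum_congr rfl fun j _ => by ring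
      _ = ∑ a, ∑ c, g i a * g i c * ∑ f, (∑ e, Q a e * ∑ j ∈ S, g j e * g j f) * Q c f := by
          refine Finset.sum_congr rfl fun a _ => Finset.sum_congr rfl fun c _ => congrArg _ ?_
          simp only [Finset.mul_sum, Finset.sum_mul]
          rw [Finset.sum_comm]
          exact Finset.sum_congr rfl fun f _ => Finset.sum_congr rfl fun e _ =>
            Finset.sum_congr rfl fun j _ => by ring
      _ = q * Nn i i := by
          simp only [hQA0]
          simp only [ite_mul, zero_mul, Finset.sum_ite_eq, Finset.mem_univ, if_true, Nn,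
            Finset.mul_sum]
          exact Finset.sum_congr rfl fun a _ => Finset.sum_congr rfl fun c _ => by rw [hQ c a]; ring
  have hle : ∀ i ∈ S, Nn i i ≤ q := fun i hi => by
    have h := Finset.single_le_sum (f := fun j => Nn i j * Nn i j) (fun j _ => mul_self_nonneg _) hi
    rw [hidem i] at h
    nlinarith
  have htr : ∑ i ∈ S, Nn i i = q * l := by
    calc ∑ i ∈ S, Nn i i = ∑ a, ∑ e, Q a e * ∑ i ∈ S, g i e * g i a := by
          simp only [Nn, Finset.mul_sum]
          rw [Finset.sum_comm]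
          refine Finset.sum_congr rfl fun a _ => ?_
          rw [Finset.sum_comm]
          exact Finset.sum_congr rfl fun e _ => Finset.sum_congr rfl fun i _ => by ring
      _ = _ := by
          simp only [hQA0]
          simp [mul_comm]
  have hcard : l ≤ S.card := by
    have h := Finset.sum_le_sum hle
    rw [htr, Finset.sum_const, nsmul_eq_mul, mul_comm ((S.card : ℤ)) q] at h
    exact_mod_cast le_of_mul_le_mul_left h hq0
  have hker : ∀ i : S, ((i : b) : IrrCharacter C) ∈ b ∧ ∀ x ∈ Subgroup.zpowers (secElt hC),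
      (((i : b) : IrrCharacter C) : C → ℂ) x = (((i : b) : IrrCharacter C) : C → ℂ) 1 := by
    intro i
    refine ⟨(i : b).2, fun x hx => ?_⟩
    obtain ⟨k, rfl⟩ := (mem_powers_iff_mem_zpowers (x := secElt hC) (y := x)).2 hx
    show (((i : b) : IrrCharacter C) : C → ℂ) (secElt hC ^ k) = _
    have h := secScalar_pow hC ((i : b) : IrrCharacter C) k
    rw [(Finset.mem_filter.1 i.2).2, one_pow, eq_comm, div_eq_one_iff_eq
      (Chars.irr_apply_one_ne_zero _)] at h
    exact h
  rw [← hl]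
  refine hcard.trans ((Fintype.card_coe S).symm.le.trans ?_)
  rw [← Nat.card_eq_fintype_card]
  exact Nat.card_le_card_of_injective (fun i : S => ⟨((i : b) : IrrCharacter C), hker i⟩)
    fun i j h => Subtype.ext (Subtype.ext (congrArg Subtype.val h :))

/-- The weighted count of a major subsection. -/
theorem heightZero_mul_weight_le (hM : IsPModular p M) (hz : orderOf z = p)
    (hC : C = Subgroup.centralizer ({z} : Set G)) (hb : IsInducedBlock M C b B)
    (hmaj : blockDefect p b = blockDefect p B) :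
    (B.toFinset.filter fun χ : IrrCharacter G => blockHeight p B (χ : G → ℂ) = 0).card *
      ∑ ψ ∈ B.toFinset, p ^ (2 * blockHeight p B (ψ : G → ℂ)) ≤
        p ^ (2 * blockDefect p B) * blockRank p b := by
  classical
  have hp := hM.1
  have hz' : orderOf z = p ^ 1 := by rw [pow_one, hz]
  obtain ⟨F, lam, hcyc, hF, hherm, hidem, htr, hlR, hlU, hlam⟩ := exists_family hM hz' hC hb
  obtain ⟨-, hne⟩ := major_facts hM hz' hC hb hmaj hF hlR hlU hlam
  set S0 := B.toFinset.filter fun χ : IrrCharacter G => blockHeight p B (χ : G → ℂ) = 0 with hS0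
  set U := primResidues p (1 + 1) with hU
  have hUt : ∀ t ∈ U, ¬ p ∣ t := fun t ht => (Finset.mem_filter.1 ht).2
  have hζ := isPrimitiveRoot_theRoot p 1
  set q : ℝ := (p : ℝ) ^ blockDefect p b with hq
  have hq0 : 0 < q := pow_pos (by exact_mod_cast hp.pos) _
  have hnorm : ∀ χ ψ t, ¬ p ∣ t → ‖F ψ χ t‖ = ‖F χ ψ t‖ := fun χ ψ t ht => by
    rw [← hherm χ ψ t ht, Complex.norm_conj]
  have hrow : ∀ χ ∈ B, ∀ t, ¬ p ∣ t →
      ((∑ ψ ∈ B.toFinset, ‖F χ ψ t‖ ^ 2 : ℝ) : ℂ) = (q : ℂ) * F χ χ t := by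
    intro χ _ t ht
    rw [hq]
    push_cast
    rw [← hidem χ χ t ht]
    refine Finset.sum_congr rfl fun ψ _ => ?_
    rw [← hherm χ ψ t ht, Complex.mul_conj, Complex.normSq_eq_norm_sq]
    push_cast
    rfl
  have hupper : ∀ t ∈ U, ∑ χ ∈ S0, ∑ ψ ∈ B.toFinset, ‖F χ ψ t‖ ^ 2 ≤ q * (q * blockRank p b) := by
    intro t ht
    refine le_trans (Finset.sum_le_sum_of_subset_of_nonneg (Finset.filter_subset _ B.toFinset)
      fun χ _ _ => Finset.sum_nonneg fun ψ _ => sq_nonneg _) (le_of_eq ?_)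
    apply Complex.ofReal_injective
    rw [Complex.ofReal_sum, Finset.sum_congr rfl fun χ hχ =>
      hrow χ (Set.mem_toFinset.1 hχ) t (hUt t ht), ← Finset.mul_sum, htr t (hUt t ht)]
    simp [hq]
  have hlower : ∀ χ ∈ S0, ∀ ψ ∈ B.toFinset,
      (U.card : ℝ) * (p : ℝ) ^ (2 * blockHeight p B (ψ : G → ℂ)) ≤
        ∑ t ∈ U, ‖F χ ψ t‖ ^ 2 := by
    intro χ hχ ψ hψ
    obtain ⟨hχB, hχ0⟩ := Finset.mem_filter.1 hχ
    rw [Set.mem_toFinset] at hχB hψ
    rw [Finset.sum_congr rfl fun t ht => by rw [← hnorm χ ψ t (hUt t ht)]]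
    refine pow_le_sum_norm_sq_of_dvd hM (Nat.succ_pos 1) hζ (hcyc ψ χ)
      (hne ψ hψ χ hχB hχ0) _ fun t ht => ?_
    have ht' := hUt t ht
    obtain ⟨Ω, hΩR, hΩ, -⟩ := exists_major_factor hM ⟨1, orderOf_pow_prime hz' ht'⟩
      (eq_centralizer_pow hz' hC ht') hb hmaj χ
    set h := blockHeight p B (ψ : G → ℂ) with hh
    have he : minExp p B + h ≤ (charDegree (ψ : G → ℂ)).factorization p := by
      have h1 : sInf ((fun φ : IrrCharacter G => (charDegree (φ : G → ℂ)).factorization p) '' B) ≤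
          (charDegree (ψ : G → ℂ)).factorization p := Nat.sInf_le ⟨ψ, hψ, rfl⟩
      simp only [minExp, blockDefect, hh, blockHeight]
      omega
    have hmem := mem_localRing.1 (mul_mem (natCast_div_mem_localRing hM
      (pow_ne_zero (minExp p B + h) hp.ne_zero) (a := charDegree (ψ : G → ℂ))
      (Or.inl (by rw [hp.factorization_pow, Finsupp.single_eq_same]; exact he)))
      (mem_localRing.2 (hΩR ψ)))
    convert hmem using 1
    rw [hF ψ χ t ht', hΩ ψ hψ, (exists_degree_eq ψ).1]
    push_cast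
    rw [pow_add]
    field_simp
  have hUc : (0 : ℝ) < U.card := by
    exact_mod_cast Finset.card_pos.2 ⟨1, one_mem_primResidues hp (Nat.succ_pos 1)⟩
  have key : (U.card : ℝ) * ((S0.card : ℝ) *
      ∑ ψ ∈ B.toFinset, (p : ℝ) ^ (2 * blockHeight p B (ψ : G → ℂ))) ≤
      (U.card : ℝ) * (q * (q * blockRank p b)) := by
    calc (U.card : ℝ) * ((S0.card : ℝ) *
          ∑ ψ ∈ B.toFinset, (p : ℝ) ^ (2 * blockHeight p B (ψ : G → ℂ)))
        = ∑ _χ ∈ S0, ∑ ψ ∈ B.toFinset,
            (U.card : ℝ) * (p : ℝ) ^ (2 * blockHeight p B (ψ : G → ℂ)) := by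
          rw [Finset.sum_const, nsmul_eq_mul, ← Finset.mul_sum]
          ring
      _ ≤ ∑ χ ∈ S0, ∑ ψ ∈ B.toFinset, ∑ t ∈ U, ‖F χ ψ t‖ ^ 2 :=
          Finset.sum_le_sum fun χ hχ => Finset.sum_le_sum fun ψ hψ => hlower χ hχ ψ hψ
      _ = ∑ t ∈ U, ∑ χ ∈ S0, ∑ ψ ∈ B.toFinset, ‖F χ ψ t‖ ^ 2 := by
          rw [Finset.sum_congr rfl fun χ _ => Finset.sum_comm, Finset.sum_comm]
      _ ≤ ∑ _t ∈ U, q * (q * blockRank p b) := Finset.sum_le_sum hupper
      _ = _ := by rw [Finset.sum_const, nsmul_eq_mul]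
  have key' := le_of_mul_le_mul_left key hUc
  rw [hq, hmaj, show (p : ℝ) ^ blockDefect p B * ((p : ℝ) ^ blockDefect p B * blockRank p b) =
    (p : ℝ) ^ (2 * blockDefect p B) * blockRank p b by rw [two_mul, pow_add]; ring] at key'
  exact_mod_cast key'

end Major

section Main

variable {p : ℕ} [Fact p.Prime] {M : Ideal AlgInt} [M.IsPrime]

/-- A major subsection at an element of order `p`. -/
theorem exists_major (hM : IsPModular p M) {G : Type u} [Group G] [Finite G]
    {B : Set (IrrCharacter G)} (hB : IsPBlock M B) (hd : 0 < blockDefect p B) :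
    ∃ (z : G) (C : Subgroup G) (b : Set (IrrCharacter C)), orderOf z = p ∧
      C = Subgroup.centralizer ({z} : Set G) ∧ IsInducedBlock M C b B ∧
      blockDefect p b = blockDefect p B := by
  have hp := hM.1
  obtain ⟨g, hg⟩ := isDefectClass_exists hB
  obtain ⟨D, hD⟩ := exists_isClassDefect (p := p) g
  have hDd : IsDefectGroup p M B D := isDefectGroup_iff.2 ⟨g, hg, hD⟩
  obtain ⟨f, hf⟩ := BrauerPairs.KernelCore.exists_pair_at_defectGroup hM hB hDd
  let m : BrauerPairIdx G := ⟨D, f⟩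
  have hmax := BrauerPairs.KernelCore.isMaximal_of_defectGroup hM (a := m) hf hDd
  have hDcard := card_defectGroup hM hB hDd
  haveI : Nontrivial D := by
    rw [← Finite.one_lt_card_iff_nontrivial]
    show 1 < Nat.card D
    rw [hDcard]
    exact Nat.one_lt_pow hd.ne' hp.one_lt
  have hDp : IsPGroup p D := hD.1
  haveI := hDp.center_nontrivial
  obtain ⟨k, hk0, hk⟩ := (hDp.to_subgroup (Subgroup.center D)).nontrivial_iff_card.1 inferInstance
  obtain ⟨w, hw⟩ := exists_prime_orderOf_dvd_card' (G := Subgroup.center D) p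
    (hk ▸ dvd_pow_self p hk0.ne')
  set z : G := ((w : D) : G) with hzdef
  have hzo : orderOf z = p := by rw [hzdef, Subgroup.orderOf_coe, Subgroup.orderOf_coe, hw]
  have hzD : z ∈ D := (w : D).2
  obtain ⟨a, ha1, ha⟩ := BrauerPairs.exists_pairLE hM (b := m) hmax.1.1
    (Subgroup.zpowers_le.2 hzD)
  have hCz : Subgroup.centralizer (a.1 : Set G) = Subgroup.centralizer ({z} : Set G) := by
    rw [ha1, BrauerPairs.centralizer_zpowers]
  have hle : D ≤ Subgroup.centralizer (a.1 : Set G) := by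
    rw [hCz]
    exact fun d hdD => Subgroup.mem_centralizer_singleton_iff.2
      (congrArg Subtype.val (Subgroup.mem_center_iff.1 w.2 ⟨d, hdD⟩))
  have haB : IsBrauerPairOf p M B a.1 a.2 :=
    (BrauerMap.isBrauerPairOf_iff_of_subpairLE hM (Q := a.1) (P := m.1) ha hmax.1.1 hmax.1.2.1).1
      hmax.1
  have hinf : m.1 ⊓ Subgroup.centralizer (a.1 : Set G) = D := inf_eq_left.2 hle
  have hdef : IsDefectGroup p M a.2 (D.subgroupOf (Subgroup.centralizer (a.1 : Set G))) := by
    have h := (BrauerPairs.isDefectGroup_inf_centralizer_iff hM hmax ha).2 fun x _ => by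
      rw [hinf]
      exact Subgroup.card_le_of_le inf_le_left
    rwa [hinf] at h
  refine ⟨z, Subgroup.centralizer (a.1 : Set G), a.2, hzo, hCz,
    Star.isInducedBlock_of_isBrauerPairOf hM haB, ?_⟩
  refine Nat.pow_right_injective hp.two_le ?_
  show p ^ blockDefect p a.2 = p ^ blockDefect p B
  rw [← card_defectGroup hM haB.1.2 hdef, ← hDcard,
    Nat.card_congr (Subgroup.subgroupOfEquivOfLe hle).toEquiv]

/-- The bounds of Brauer and Feit. -/
theorem card_block_le (hM : IsPModular p M) : ∀ (d : ℕ) (G : Type u) [Group G] [Finite G]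
    (B : Set (IrrCharacter G)), IsPBlock M B → blockDefect p B = d →
      (d ≤ 2 → Nat.card B ≤ p ^ d) ∧ (3 ≤ d → Nat.card B ≤ p ^ (2 * d - 2)) := by
  intro d
  induction d using Nat.strong_induction_on with
  | _ d ih =>
  intro G _ _ B hB hd
  classical
  have hp := hM.1
  cases nonempty_fintype G
  rcases Nat.eq_zero_or_pos d with rfl | hd0
  · refine ⟨fun _ => ?_, fun h => absurd h (by omega)⟩
    have h := BrauerFeit.card_le hM (BrauerFeit.regOrth hM) (BrauerFeit.regGen p) hB
    rw [hd, pow_zero, one_pow] at h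
    rw [pow_zero]
    omega
  obtain ⟨z, C, b, hzo, hC, hb, hmaj⟩ := exists_major hM hB (hd.symm ▸ hd0)
  haveI := Fintype.ofFinite C
  refine ⟨fun hd2 => hd ▸ card_le_of_defect_le_two hM hzo hC hb hmaj (hd.symm ▸ hd0) (hd ▸ hd2),
    fun hd3 => ?_⟩
  have hcen : Subgroup.zpowers (secElt hC) ≤ Subgroup.center C :=
    Subgroup.zpowers_le.2 (secElt_mem_center hC)
  haveI : (Subgroup.zpowers (secElt hC)).Normal := ⟨fun x hx y => by
    rwa [Subgroup.mem_center_iff.1 (hcen hx) y, mul_inv_cancel_right]⟩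
  obtain ⟨bq, hbq, hbqd, hkle⟩ := exists_quotient_block hM (Subgroup.zpowers (secElt hC)) hcen
    (by rw [Nat.card_zpowers, ← Subgroup.orderOf_coe]; exact hzo) hb.1
  have hdb : blockDefect p bq = d - 1 := by omega
  have hl : blockRank p b ≤ p ^ (2 * d - 4) := by
    refine (blockRank_le_kernel hM (j := 1) (by rw [pow_one, hzo]) hC hb (by omega)).trans (hkle.trans ?_)
    obtain ⟨h2, h3⟩ := ih (d - 1) (by omega) _ bq hbq hdb
    rcases Nat.lt_or_ge (d - 1) 3 with hlt | hge
    · refine (h2 (by omega)).trans (le_of_eq ?_)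
      congr 1
      omega
    · refine (h3 hge).trans (le_of_eq ?_)
      congr 1
      omega
  have h1 := heightZero_mul_weight_le hM hzo hC hb hmaj
  have h2 := BrauerFeit.sum_pow_height_le hM (BrauerFeit.regOrth hM) (BrauerFeit.regGen p) hB
  rw [finsum_mem_eq_toFinset_sum] at h2
  rw [hd] at h1 h2
  set S0 := B.toFinset.filter fun χ : IrrCharacter G => blockHeight p B (χ : G → ℂ) = 0 with hS0
  set S1 := B.toFinset.filter fun χ : IrrCharacter G => ¬ blockHeight p B (χ : G → ℂ) = 0 with hS1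
  have hsum : S0.card + p ^ 2 * S1.card ≤
      ∑ ψ ∈ B.toFinset, p ^ (2 * blockHeight p B (ψ : G → ℂ)) := by
    rw [← Finset.sum_filter_add_sum_filter_not B.toFinset
      fun ψ : IrrCharacter G => blockHeight p B (ψ : G → ℂ) = 0, ← hS0, ← hS1]
    refine Nat.add_le_add ?_ ?_
    · rw [Finset.card_eq_sum_ones]
      exact Finset.sum_le_sum fun ψ _ => Nat.one_le_pow _ _ hp.pos
    · rw [mul_comm, ← smul_eq_mul, ← Finset.sum_const]
      refine Finset.sum_le_sum fun ψ hψ => Nat.pow_le_pow_right hp.pos ?_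
      have := (Finset.mem_filter.1 hψ).2
      omega
  have hS0pos : 0 < S0.card := by
    obtain ⟨ψ, hψ, hψ0⟩ := Blocks.exists_height_zero (p := p) hB
    exact Finset.card_pos.2 ⟨ψ, Finset.mem_filter.2 ⟨Set.mem_toFinset.2 hψ, hψ0⟩⟩
  have hpow : (p ^ d) ^ 2 = p ^ 2 * p ^ (2 * d - 2) := by
    rw [← pow_mul, ← pow_add]
    congr 1
    omega
  rw [hpow] at h2
  have hcard : Nat.card B = S0.card + S1.card := by
    rw [Nat.card_eq_card_toFinset, hS0, hS1, Finset.card_filter_add_card_filter_not]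
  rw [hcard]
  refine arith_bound hp.two_le hS0pos ?_ ?_
  · calc S0.card * (S0.card + p ^ 2 * S1.card)
        ≤ S0.card * ∑ ψ ∈ B.toFinset, p ^ (2 * blockHeight p B (ψ : G → ℂ)) :=
          Nat.mul_le_mul_left _ hsum
      _ ≤ p ^ (2 * d) * p ^ (2 * d - 4) := h1.trans (Nat.mul_le_mul_left _ hl)
      _ = (p ^ (2 * d - 2)) ^ 2 := by
          rw [← pow_add, ← pow_mul]
          congr 1
          omega
  · have h3 := hsum.trans h2
    have h4 := Nat.div_mul_le_self (p ^ 2 * p ^ (2 * d - 2)) 4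
    omega

end Main

end Cfsg.Agent.Lib.DefectBound
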