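import Mathlib
import Cfsg.Agent.Lib.DefectBound.Rows

/-!
# Congruences of two by two minors
-/

set_option autoImplicit false

namespace Cfsg.Agent.Lib.DefectBound

/-- If all minors are divisible by `m` then the same holds after a change of rows and columns. -/
theorem dvd_minor_of_transform {ι : Type*} [Fintype ι] {l : ℕ} {m : ℤ} (N : ι → ι → ℤ)
    (s : Fin l → ι → ℤ) (Q : Fin l → Fin l → ℤ)
    (hQ : ∀ a c, Q a c = ∑ i, ∑ j, s a i * s c j * N i j)
    (h : ∀ i j i' j', m ∣ N i i' * N j j' - N i j' * N j i') (a a' c c' : Fin l) :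
    m ∣ Q a c * Q a' c' - Q a c' * Q a' c := by
  have e : ∀ c c', Q a c * Q a' c' =
      ∑ i, ∑ i', ∑ j, ∑ j', s a i * s c i' * s a' j * s c' j' * (N i i' * N j j') := by
    intro c c'
    rw [hQ, hQ]
    simp only [Finset.sum_mul]
    refine Finset.sum_congr rfl fun i _ => Finset.sum_congr rfl fun i' _ => ?_
    simp only [Finset.mul_sum]
    exact Finset.sum_congr rfl fun j _ => Finset.sum_congr rfl fun j' _ => by ring
  have e' : Q a c' * Q a' c =
      ∑ i, ∑ i', ∑ j, ∑ j', s a i * s c i' * s a' j * s c' j' * (N i j' * N j i') := by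
    rw [e c' c]
    refine Finset.sum_congr rfl fun i _ => ?_
    rw [Finset.sum_comm]
    conv_rhs => rw [Finset.sum_comm]
    refine Finset.sum_congr rfl fun j _ => ?_
    rw [Finset.sum_comm]
    exact Finset.sum_congr rfl fun i' _ => Finset.sum_congr rfl fun j' _ => by ring
  rw [e c c', e']
  simp only [← Finset.sum_sub_distrib, ← mul_sub]
  exact Finset.dvd_sum fun i _ => Finset.dvd_sum fun i' _ => Finset.dvd_sum fun j _ =>
    Finset.dvd_sum fun j' _ => dvd_mul_of_dvd_right (h i j i' j') _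

/-- Rank one modulo `p ^ r` with a unit entry. -/
theorem pow_dvd_det_of_minors_unit {l p r : ℕ} (hp : p.Prime) (Q : Fin l → Fin l → ℤ)
    (h : ∀ a b c e, (p : ℤ) ^ r ∣ Q a c * Q b e - Q a e * Q b c) {a₀ c₀ : Fin l}
    (hu : ¬ (p : ℤ) ∣ Q a₀ c₀) :
    (p : ℤ) ^ (r * (l - 1)) ∣ (Matrix.of Q).det := by
  choose R hR using fun a c => h a a₀ c c₀
  have e : Q a₀ c₀ • Matrix.of Q =
      (p : ℤ) ^ r • Matrix.of R + Matrix.of fun a c => Q a c₀ * Q a₀ c := by
    ext a c
    simp only [Matrix.smul_apply, Matrix.add_apply, Matrix.of_apply, smul_eq_mul, ← hR a c]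
    ring
  have hd := pow_dvd_det_of_outer (pow_ne_zero r (by exact_mod_cast hp.ne_zero : (p : ℤ) ≠ 0))
    (fun a => Q a c₀) (fun c => Q a₀ c) (Matrix.of R)
  rw [← e, Matrix.det_smul, ← pow_mul] at hd
  exact IsCoprime.dvd_of_dvd_mul_left
    (IsCoprime.pow (((Nat.prime_iff_prime_int.1 hp).coprime_iff_not_dvd.2 hu))) hd

end Cfsg.Agent.Lib.DefectBound
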