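import Mathlib
import Cfsg.Agent.Lib.DefectBound.Main
import Cfsg.Agent.Lib.DefectBound.Minors
import Cfsg.Agent.Lib.DefectBound.Local

/-!
# Blocks with abelian defect group and a cyclic quotient by a subsection element

`k ≤ p ^ d` if the defect group is generated by two elements.
-/

set_option autoImplicit false
set_option linter.unusedSectionVars false

namespace Cfsg.Agent.Lib.DefectBound

open Cfsg
open Cfsg.Agent.Lib
open Cfsg.Agent.Lib.Blocks
open Cfsg.Agent.Lib.Contrib
open Cfsg.Agent.Lib.BrauerFeit (regCoef)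
open Cfsg.Agent.Lib.NilBlock (bu)
open Cfsg.Agent.Lib.BrauerPairs (isDefectGroup_of_isMaximal)
open scoped ComplexConjugate

attribute [local instance] Classical.propDecidable

universe u

/-- An integral form with an inverse integral Gram matrix is at least one. -/
theorem one_le_form {ι : Type*} [Fintype ι] {l : ℕ} (g : ι → Fin l → ℤ) (Q : Fin l → Fin l → ℤ)
    {q : ℤ} (hq : 0 < q) (hQsym : ∀ a c, Q a c = Q c a)
    (hQA : ∀ a c, ∑ e, Q a e * ∑ i, g i e * g i c = if a = c then q else 0)
    {x : Fin l → ℤ} (hx : x ≠ 0) : 1 ≤ ∑ a, ∑ c, x a * Q a c * x c := by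
  let y : ι → ℤ := fun i => ∑ e, g i e * ∑ a, Q e a * x a
  have h1 : ∑ i, y i * y i = q * ∑ a, ∑ c, x a * Q a c * x c := by
    calc ∑ i, y i * y i = ∑ a, x a * ∑ f, (∑ e, Q a e * ∑ i, g i e * g i f) * ∑ c, Q f c * x c := by
          simp only [y, Finset.sum_mul, Finset.mul_sum]
          rw [Finset.sum_comm]
          conv_rhs => rw [Finset.sum_comm]
          refine Finset.sum_congr rfl fun f _ => ?_
          rw [Finset.sum_comm]
          conv_rhs => rw [Finset.sum_comm]
          refine Finset.sum_congr rfl fun c _ => ?_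
          rw [Finset.sum_comm]
          conv_rhs => rw [Finset.sum_comm]
          refine Finset.sum_congr rfl fun e _ => ?_
          rw [Finset.sum_comm]
          exact Finset.sum_congr rfl fun a _ => Finset.sum_congr rfl fun i _ => by
            rw [hQsym a e]; ring
      _ = _ := by
          simp only [hQA, ite_mul, zero_mul, Finset.sum_ite_eq, Finset.mem_univ, if_true]
          simp only [Finset.mul_sum]
          exact Finset.sum_congr rfl fun a _ => Finset.sum_congr rfl fun c _ => by ring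
  by_contra hcon
  push Not at hcon
  have h2 : ∀ i, y i = 0 := fun i => mul_self_eq_zero.1 <|
    (Finset.sum_eq_zero_iff_of_nonneg fun i _ => mul_self_nonneg (y i)).1
      (le_antisymm (h1 ▸ mul_nonpos_of_nonneg_of_nonpos hq.le (by omega))
        (Finset.sum_nonneg fun i _ => mul_self_nonneg _)) i (Finset.mem_univ _)
  refine hx (funext fun c => ?_)
  have h3 : ∑ i, g i c * y i = q * x c := by
    calc ∑ i, g i c * y i = ∑ a, (∑ e, Q a e * ∑ i, g i e * g i c) * x a := by
          simp only [y, Finset.sum_mul, Finset.mul_sum]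
          rw [Finset.sum_comm]
          conv_rhs => rw [Finset.sum_comm]
          refine Finset.sum_congr rfl fun e _ => ?_
          rw [Finset.sum_comm]
          exact Finset.sum_congr rfl fun a _ => Finset.sum_congr rfl fun i _ => by
            rw [hQsym a e]; ring
      _ = _ := by simp [hQA]
  simp only [h2, mul_zero, Finset.sum_const_zero] at h3
  exact (mul_eq_zero.1 h3.symm).resolve_left hq.ne'

section Mean

variable {G : Type u} [Group G] [Fintype G] {p : ℕ} {M : Ideal AlgInt} [Fact p.Prime] [M.IsPrime]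
  {C : Subgroup G} [Fintype C] {z : G} {j : ℕ} {b : Set (IrrCharacter C)} {B : Set (IrrCharacter G)}

/-- A lower bound for the form gives an upper bound for the number of characters. -/
theorem card_mul_le_of_min (hM : IsPModular p M) (hz : orderOf z = p ^ j)
    (hC : C = Subgroup.centralizer ({z} : Set G)) (hb : IsInducedBlock M C b B)
    (hmaj : blockDefect p b = blockDefect p B) {l : ℕ} {Q A : Fin l → Fin l → ℤ}
    {X : IrrCharacter G → Fin l → ℕ → ℂ} (hQ : ∀ a c, Q a c = Q c a)
    (hA : ∀ a c, A a c = A c a)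
    (hQA : ∀ a c, ∑ e, Q a e * A e c = if a = c then (p : ℤ) ^ blockDefect p b else 0)
    (hX : ∀ χ a, IsCyc (theRoot p j) (X χ a))
    (hform : ∀ t, ¬ p ∣ t → ∀ χ ψ, (p : ℂ) ^ blockDefect p b * contrib p (z ^ t) b χ ψ =
        ∑ a, ∑ c, X χ a t * (Q a c : ℂ) * conj (X ψ c t))
    (hsum : ∀ t, ¬ p ∣ t → ∀ a c, ∑ χ ∈ B.toFinset, X χ a t * conj (X χ c t) = (A a c : ℂ))
    {ι : Type*} [Fintype ι] (g0 : ι → Fin l → ℤ) {q : ℤ} (hq : 0 < q)
    (hQA0 : ∀ a c, ∑ e, Q a e * ∑ i, g0 i e * g0 i c = if a = c then q else 0) {L : ℕ}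
    (hmin : ∀ x : Fin l → ℤ, x ≠ 0 → (L : ℤ) ≤ ∑ a, ∑ c, x a * Q a c * x c) :
    Nat.card B * L ≤ p ^ blockDefect p B * l := by
  classical
  have hp := hM.1
  haveI : NeZero (p ^ (j + 1)) := ⟨pow_ne_zero _ hp.ne_zero⟩
  obtain ⟨F, lam', -, hF, -, -, -, hlR, hlU, hlam'⟩ := exists_family hM hz hC hb
  obtain ⟨-, hne⟩ := major_facts hM hz hC hb hmaj hF hlR hlU hlam'
  obtain ⟨ψ₀, hψ₀, h00⟩ := Blocks.exists_height_zero (p := p) hb.2.1
  have hrow : ∀ χ ∈ B, ∃ a, X χ a 1 ≠ 0 := fun χ hχ => by
    by_contra hno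
    push Not at hno
    refine hne χ hχ ψ₀ hψ₀ h00 ?_
    rw [hF χ ψ₀ 1 hp.not_dvd_one, hform 1 hp.not_dvd_one χ ψ₀]
    exact Finset.sum_eq_zero fun a _ => Finset.sum_eq_zero fun c _ => by
      rw [hno a, zero_mul, zero_mul]
  have hζ := isPrimitiveRoot_theRoot p j
  set U := primResidues p (j + 1) with hU
  have hUt : ∀ t ∈ U, ¬ p ∣ t := fun t ht => (Finset.mem_filter.1 ht).2
  have hchi : ∀ χ ∈ B.toFinset, (U.card : ℝ) * ((L : ℤ) : ℝ) ≤
      (∑ t ∈ U, ∑ a, ∑ c, X χ a t * (Q a c : ℂ) * conj (X χ c t)).re := fun χ hχ =>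
    card_mul_le_form hp (Nat.succ_pos j) hζ g0 Q hq hQ hQA0 hmin (X χ) (hX χ)
      (hrow χ (Set.mem_toFinset.1 hχ))
  have htot : ∑ χ ∈ B.toFinset, (∑ t ∈ U, ∑ a, ∑ c, X χ a t * (Q a c : ℂ) * conj (X χ c t)).re =
      (U.card : ℝ) * ((p : ℝ) ^ blockDefect p b * l) := by
    have h : ∑ χ ∈ B.toFinset, ∑ t ∈ U, ∑ a, ∑ c, X χ a t * (Q a c : ℂ) * conj (X χ c t) =
        (((U.card : ℝ) * ((p : ℝ) ^ blockDefect p b * l) : ℝ) : ℂ) := by
      rw [Finset.sum_comm, Finset.sum_congr rfl (g := fun _ => ((p : ℂ) ^ blockDefect p b * l))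
        fun t ht => ?_, Finset.sum_const, nsmul_eq_mul]
      · push_cast; rfl
      · calc ∑ χ ∈ B.toFinset, ∑ a, ∑ c, X χ a t * (Q a c : ℂ) * conj (X χ c t)
            = ∑ a, ∑ c, (Q a c : ℂ) * (A c a : ℂ) := by
              rw [Finset.sum_comm]
              refine Finset.sum_congr rfl fun a _ => ?_
              rw [Finset.sum_comm]
              refine Finset.sum_congr rfl fun c _ => ?_
              rw [hA c a, ← hsum t (hUt t ht) a c, Finset.mul_sum]
              exact Finset.sum_congr rfl fun χ _ => by ring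
          _ = ∑ _a : Fin l, (p : ℂ) ^ blockDefect p b := Finset.sum_congr rfl fun a _ => by
              have := hQA a a
              rw [if_pos rfl] at this
              exact_mod_cast this
          _ = _ := by simp [mul_comm]
    rw [← Complex.re_sum, h, Complex.ofReal_re]
  have hfin := (Finset.sum_le_sum hchi).trans_eq htot
  rw [Finset.sum_const, nsmul_eq_mul, Int.cast_natCast, hmaj] at hfin
  have hUl : (0 : ℝ) < (U.card : ℝ) := by
    exact_mod_cast Finset.card_pos.2 ⟨1, one_mem_primResidues hp (Nat.succ_pos j)⟩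
  have hres : (B.toFinset.card : ℝ) * L ≤ (p : ℝ) ^ blockDefect p B * l :=
    le_of_mul_le_mul_left ((le_of_eq (by ring)).trans hfin) hUl
  rw [Nat.card_eq_card_toFinset]
  exact_mod_cast hres

/-- The number of characters against the rank of a major subsection. -/
theorem card_le_mul_rank (hM : IsPModular p M) (hz : orderOf z = p ^ j)
    (hC : C = Subgroup.centralizer ({z} : Set G)) (hb : IsInducedBlock M C b B)
    (hmaj : blockDefect p b = blockDefect p B) :
    Nat.card B ≤ p ^ blockDefect p B * blockRank p b := by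
  obtain ⟨l, Q, A, X, g, hl, hQ, hA, hQA, -, -, hX, hform, hsum, hAg, -, -, -⟩ :=
    exists_columns_rows hM hz hC hb
  have hq : (0 : ℤ) < (p : ℤ) ^ blockDefect p b := pow_pos (by exact_mod_cast hM.1.pos) _
  have hQA0 : ∀ a c, ∑ e, Q a e * ∑ i : b, g i e * g i c =
      if a = c then (p : ℤ) ^ blockDefect p b else 0 := fun a c => by
    rw [← hQA a c]
    exact Finset.sum_congr rfl fun e _ => by rw [hAg]
  have h := card_mul_le_of_min hM hz hC hb hmaj hQ hA hQA hX hform hsum g hq hQA0
    (L := 1) fun x hx => one_le_form g Q hq hQ hQA0 hx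
  rwa [mul_one, hl] at h

end Mean

section TwoGen

variable {p : ℕ} [Fact p.Prime] {M : Ideal AlgInt} [M.IsPrime]
  {G : Type u} [Group G] [Fintype G] {B : Set (IrrCharacter G)} {b : BrauerPairIdx G}
  (hM : IsPModular p M) (hmax : IsMaximalBrauerPair p M B b.1 b.2)
  (hab : ∀ x ∈ b.1, ∀ y ∈ b.1, x * y = y * x)

include hM hmax hab in
/-- The rank of the subsection is at most the number of characters of a block of the quotient, whose
defect group is the image of the defect group. -/
theorem exists_quotient_subsection {u : G} (hu : u ∈ b.1) {j : ℕ} (hj : orderOf u = p ^ j) :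
    ∃ (H : Type u) (_ : Group H) (_ : Finite H) (bq : Set (IrrCharacter H)) (P : Subgroup H)
      (π : ↥(Subgroup.centralizer ((bu p M b u).1 : Set G)) →* H),
      IsPBlock M bq ∧ IsDefectGroup p M bq P ∧
      P = (b.1.subgroupOf (Subgroup.centralizer ((bu p M b u).1 : Set G))).map π ∧
      (∀ x : ↥(Subgroup.centralizer ((bu p M b u).1 : Set G)), (x : G) = u → π x = 1) ∧
      blockDefect p bq + j = blockDefect p B ∧
      blockRank p (bu p M b u).2 ≤ Nat.card bq ∧
      Nat.card B ≤ p ^ blockDefect p B * blockRank p (bu p M b u).2 := by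
  set C := Subgroup.centralizer ((bu p M b u).1 : Set G) with hCdef
  haveI := Fintype.ofFinite C
  have hC : C = Subgroup.centralizer ({u} : Set G) := NilBlock.centralizer_bu u
  have hb := NilBlock.isInducedBlock_bu hM hmax hu
  have hmaj := AbelianStar.blockDefect_bu hM hmax hab hu
  have hjd : j ≤ blockDefect p (bu p M b u).2 := by
    rw [hmaj]
    refine (Nat.pow_dvd_pow_iff_le_right hM.1.one_lt).1 ?_
    rw [← hj, ← NilBlock.card_eq hM hmax, ← Subgroup.orderOf_mk (a := u) hu]
    exact orderOf_dvd_natCard _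
  obtain ⟨bC, hbC1, hbC⟩ := exists_local_pair hM hmax hab hu
  have hPd := isDefectGroup_of_isMaximal hM hbC
  have hcen : Subgroup.zpowers (secElt hC) ≤ Subgroup.center C :=
    Subgroup.zpowers_le.2 (secElt_mem_center hC)
  haveI : (Subgroup.zpowers (secElt hC)).Normal := ⟨fun x hx y => by
    rwa [Subgroup.mem_center_iff.1 (hcen hx) y, mul_inv_cancel_right]⟩
  obtain ⟨bq, hbq, hQd, hdd, hle, -⟩ := exists_quotient_central hM (Subgroup.zpowers (secElt hC))
    hcen (by rw [Nat.card_zpowers, ← Subgroup.orderOf_coe]; exact hj) hb.1 hPd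
  refine ⟨_, inferInstance, inferInstance, bq, _, QuotientGroup.mk' (Subgroup.zpowers (secElt hC)),
    hbq, hQd, by rw [hbC1], fun x hx => (QuotientGroup.eq_one_iff x).2 ?_, hmaj ▸ hdd,
    (blockRank_le_kernel hM hj hC hb hjd).trans hle, card_le_mul_rank hM hj hC hb hmaj⟩
  rw [show x = secElt hC from Subtype.ext hx]
  exact Subgroup.mem_zpowers _

include hM hmax hab in
/-- `k ≤ p ^ d` when the defect group is `<u, w>`. -/
theorem card_le_of_gen {u w : G} (hu : u ∈ b.1) (hw : w ∈ b.1)
    (hgen : ∀ x ∈ b.1, ∃ a c : ℤ, u ^ a * w ^ c = x) :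
    Nat.card B ≤ p ^ blockDefect p B := by
  classical
  have hp := hM.1
  obtain ⟨j, hj⟩ := NilBlock.exists_orderOf_eq hM hmax hu
  obtain ⟨H, _, _, bq, P, π, hbq, -, -, -, hdd, hlk, hkl⟩ :=
    exists_quotient_subsection hM hmax hab hu hj
  rcases Nat.lt_or_ge j (blockDefect p B) with hjd | hjd
  swap
  · have h0 : blockDefect p bq = 0 := by omega
    have h1 := (card_block_le hM 0 H bq hbq h0).1 (by omega)
    rw [pow_zero] at h1
    exact hkl.trans ((Nat.mul_le_mul_left _ (hlk.trans h1)).trans (mul_one _).le)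
  set C := Subgroup.centralizer ((bu p M b u).1 : Set G) with hCdef
  haveI := Fintype.ofFinite C
  have hC : C = Subgroup.centralizer ({u} : Set G) := NilBlock.centralizer_bu u
  have hb := NilBlock.isInducedBlock_bu hM hmax hu
  have hmaj := AbelianStar.blockDefect_bu hM hmax hab hu
  obtain ⟨bC, hbC1, hbC⟩ := exists_local_pair hM hmax hab hu
  generalize he : (bu p M b u).2 = e at hb hmaj hbC hlk hkl
  obtain ⟨l, Q, A, X, g, hl, hQ, hA, hQA, -, -, hX, hform, hsum, hAg, hN,
    ⟨lam, hlamR, hlamU, hlam⟩, s, hs⟩ := exists_columns_rows hM hj hC hb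
  -- the local data
  have habC : ∀ x ∈ bC.1, ∀ y ∈ bC.1, x * y = y * x := fun x hx y hy => by
    rw [hbC1, Subgroup.mem_subgroupOf] at hx hy
    exact Subtype.ext (hab _ hx _ hy)
  set zC := secElt hC with hzC
  have hzb : zC ∈ bC.1 := by rw [hbC1, Subgroup.mem_subgroupOf]; exact hu
  have hwC : w ∈ C := by
    rw [hC, Subgroup.mem_centralizer_singleton_iff]
    exact hab w hw u hu
  have hfree : ∀ v : bC.1, (v : C) ∉ Subgroup.zpowers zC →
      blockRank p (bu p M bC (v : C)).2 = 1 := fun v hv =>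
    blockRank_bu_eq_one hM hbC habC hzb (secElt_mem_center hC) (w := ⟨w, hwC⟩)
      (by rw [hbC1, Subgroup.mem_subgroupOf]; exact hw)
      (fun x hx => by
        rw [hbC1, Subgroup.mem_subgroupOf] at hx
        obtain ⟨a, c, hac⟩ := hgen _ hx
        exact ⟨a, c, Subtype.ext (by
          simp only [Subgroup.coe_mul, SubgroupClass.coe_zpow, hzC]
          exact hac)⟩) v.2 hv
  set d := blockDefect p e with hd
  let N : e → e → ℤ := fun ξ η => ∑ a, ∑ c, g ξ a * Q a c * g η c
  have hmin2 : ∀ a a' c c', (p : ℤ) ^ (d - j) ∣ Q a c * Q a' c' - Q a c' * Q a' c :=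
    dvd_minor_of_transform N s Q hs fun i i' k k' =>
      dvd_minor hM hbC habC (z := zC) (by rw [← Subgroup.orderOf_coe]; exact hj) hzb
        (secElt_mem_center hC) hfree i.2 i'.2 (hN i k) (hN i' k') (hN i k') (hN i' k)
  -- a height zero member trivial on the element
  have hcen : Subgroup.zpowers zC ≤ Subgroup.center C :=
    Subgroup.zpowers_le.2 (secElt_mem_center hC)
  haveI : (Subgroup.zpowers zC).Normal := ⟨fun x hx y => by
    rwa [Subgroup.mem_center_iff.1 (hcen hx) y, mul_inv_cancel_right]⟩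
  obtain ⟨-, -, -, -, -, η₀', hη₀e, hη₀h, hη₀k⟩ := exists_quotient_central hM
    (Subgroup.zpowers zC) hcen (by rw [Nat.card_zpowers, ← Subgroup.orderOf_coe]; exact hj) hb.1
    (isDefectGroup_of_isMaximal hM hbC)
  set S := Finset.univ.filter (fun i : e => secScalar hC (i : IrrCharacter C) = 1) with hS
  set η₀ : e := ⟨η₀', hη₀e⟩ with hη₀
  have hη₀S : η₀ ∈ S := by
    refine Finset.mem_filter.2 ⟨Finset.mem_univ _, ?_⟩
    show (η₀' : C → ℂ) (secElt hC) / (η₀' : C → ℂ) 1 = 1
    rw [hη₀k _ (Subgroup.mem_zpowers _), div_self (Chars.irr_apply_one_ne_zero _)]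
  let g0 : S → Fin l → ℤ := fun i => g i
  set q : ℤ := (p : ℤ) ^ (d - j) with hq
  have hpZ : (p : ℤ) ≠ 0 := by exact_mod_cast hp.ne_zero
  have hq0 : 0 < q := pow_pos (by exact_mod_cast hp.pos) _
  have hjd' : j < d := hmaj.symm ▸ hjd
  have hqd : (p : ℤ) ^ j * q = (p : ℤ) ^ d := by
    rw [hq, ← pow_add, Nat.add_sub_cancel' hjd'.le]
  have hgram := gram_kernel hM hj hC hb.1 hQ hQA hAg hN
  have hQA0 : ∀ a c, ∑ f, Q a f * ∑ i : S, g0 i f * g0 i c = if a = c then q else 0 := fun a c => by
    refine mul_left_cancel₀ (pow_ne_zero j hpZ) ?_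
    rw [Finset.mul_sum, Finset.sum_congr rfl (g := fun f => Q a f * A f c) fun f _ => ?_, hQA a c,
      mul_ite, mul_zero, hqd]
    rw [← hgram f c, Finset.sum_coe_sort S fun i => g i f * g i c]
    ring
  have hunit : ¬ (p : ℤ) ∣ N η₀ η₀ := fun hdv => by
    have hu0 := degree_div_not_mem hM hη₀e hη₀h
    have huR := degree_div_mem hM hη₀e
    refine not_memLocalIdeal_mul (mem_localRing.1 (mul_mem (mem_localRing.2 hlamR)
      (mem_localRing.2 huR))) huR (not_memLocalIdeal_mul hlamR huR hlamU hu0) hu0 ?_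
    simpa [N] using memLocalIdeal_sub ((memLocalIdeal_intCast_iff hM _).2 hdv) (hlam η₀ η₀)
  obtain ⟨a₀, c₀, hac⟩ : ∃ a c, ¬ (p : ℤ) ∣ Q a c := by
    by_contra hno
    push Not at hno
    exact hunit (Finset.dvd_sum fun a _ => Finset.dvd_sum fun c _ =>
      dvd_mul_of_dvd_left (dvd_mul_of_dvd_right (hno a c) _) _)
  have hl0 : 0 < l := a₀.pos
  have hdet : (Matrix.of Q).det * (Matrix.of fun a c => ∑ i : S, g0 i a * g0 i c).det = q ^ l := by
    rw [← Matrix.det_mul, show Matrix.of Q * (Matrix.of fun a c => ∑ i : S, g0 i a * g0 i c) =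
      q • (1 : Matrix (Fin l) (Fin l) ℤ) from ?_,
      Matrix.det_smul, Matrix.det_one, mul_one, Fintype.card_fin]
    ext a c
    rw [Matrix.mul_apply, Matrix.smul_apply, Matrix.one_apply, smul_eq_mul, mul_ite, mul_one,
      mul_zero]
    exact hQA0 a c
  have hdetle : (Matrix.of fun a c => ∑ i : S, g0 i a * g0 i c).det ≤ q := by
    obtain ⟨m, hm⟩ := pow_dvd_det_of_minors_unit hp Q hmin2 hac
    rw [hm, pow_mul, ← hq, show q ^ l = q ^ (l - 1) * q by
      rw [← pow_succ, Nat.sub_add_cancel hl0], mul_assoc] at hdet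
    have h3 := mul_left_cancel₀ (pow_ne_zero _ hq0.ne') hdet
    exact Int.le_of_dvd hq0 (Dvd.intro_left m h3)
  have hloop : ∀ i : S, ∀ y : Fin l → ℝ, (∀ k : S, k ≠ i → ∑ a, (g0 k a : ℝ) * y a = 0) →
      ∑ a, (g0 i a : ℝ) * y a = 0 := by
    intro i y hy
    by_contra hne0
    have hrow : ∀ k : S, (∑ a, (g0 i a : ℝ) * y a) * ((N i k : ℤ) : ℝ) =
        (∑ a, (g0 k a : ℝ) * y a) * (q : ℝ) := by
      intro k
      calc (∑ a, (g0 i a : ℝ) * y a) * ((N i k : ℤ) : ℝ)
          = ∑ m : S, (∑ a, (g0 m a : ℝ) * y a) *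
              ((∑ e', ∑ f, g0 k e' * Q e' f * g0 m f : ℤ) : ℝ) := by
            refine Eq.trans ?_ (Finset.sum_eq_single (f := fun m : S =>
                (∑ a, (g0 m a : ℝ) * y a) * ((∑ e', ∑ f, g0 k e' * Q e' f * g0 m f : ℤ) : ℝ)) i
              (fun m _ hm => by rw [hy m hm, zero_mul])
              (fun h => absurd (Finset.mem_univ i) h)).symm
            congr 2
            simp only [N, g0]
            rw [Finset.sum_comm]
            exact Finset.sum_congr rfl fun a _ => Finset.sum_congr rfl fun c _ => by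
              rw [hQ a c]; ring
        _ = ∑ a, ∑ e', y a * (g0 k e' : ℝ) *
              ((∑ f, Q e' f * ∑ m : S, g0 m f * g0 m a : ℤ) : ℝ) := by
            push_cast
            simp only [Finset.sum_mul, Finset.mul_sum]
            rw [Finset.sum_comm]
            conv_rhs => rw [Finset.sum_comm]
            refine Finset.sum_congr rfl fun a _ => ?_
            rw [Finset.sum_comm]
            conv_rhs => rw [Finset.sum_comm]
            refine Finset.sum_congr rfl fun e' _ => ?_
            rw [Finset.sum_comm]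
            exact Finset.sum_congr rfl fun f _ => Finset.sum_congr rfl fun m _ => by ring
        _ = _ := by
            simp only [hQA0, Finset.sum_mul]
            refine Finset.sum_congr rfl fun a _ => ?_
            rw [Finset.sum_eq_single a (fun e' _ he => by rw [if_neg he, Int.cast_zero, mul_zero])
              (fun h => absurd (Finset.mem_univ a) h), if_pos rfl]
            ring
    by_cases hi : i = ⟨η₀, hη₀S⟩
    · have h := hrow i
      have hNq : N i i = q := by exact_mod_cast mul_left_cancel₀ hne0 h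
      rw [show (i : e) = η₀ from congrArg Subtype.val hi] at hNq
      exact hunit (hNq ▸ dvd_pow_self (p : ℤ) (by omega))
    · have h := hrow ⟨η₀, hη₀S⟩
      rw [hy _ (Ne.symm hi), zero_mul] at h
      have h0 : N i η₀ = 0 := by exact_mod_cast (mul_eq_zero.1 h).resolve_left hne0
      obtain ⟨m, hm, hmsym, -, -, hmnd, -⟩ := BrauerFeit.exists_int_matrix hM
        (BrauerFeit.regOrth hM) (BrauerFeit.regGen p) hb.1
      refine hmnd η₀' hη₀e ((i : e) : IrrCharacter C) (i : e).2 hη₀h ?_
      have hm0 : m η₀' ((i : e) : IrrCharacter C) = 0 := by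
        rw [hmsym η₀' hη₀e _ (i : e).2, ← h0]
        have h1 := hm _ (i : e).2 η₀'
        rw [hN (i : e) η₀] at h1
        exact_mod_cast h1.symm
      rw [hm0]
      exact dvd_zero _
  have h := card_mul_le_of_min hM hj hC hb hmaj hQ hA hQA hX hform hsum g0 hq0 hQA0
    (L := l) fun x hx => le_form g0 Q hq0 hQA0 hdetle hloop hx
  exact Nat.le_of_mul_le_mul_right h hl0

end TwoGen

end Cfsg.Agent.Lib.DefectBound
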