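import Mathlib
import Cfsg.Agent.Lib.DefectBound.TwoGen

/-!
# Abelian defect groups of rank two or three
-/

set_option autoImplicit false
set_option linter.unusedSectionVars false

namespace Cfsg.Agent.Lib.DefectBound

open Cfsg
open Cfsg.Agent.Lib

attribute [local instance] Classical.propDecidable

universe u

section Exchange

variable {A : Type u} [CommGroup A] [Finite A] {p : ℕ} [Fact p.Prime]

theorem exists_exchange_mem (hA : IsPGroup p A) (S : Finset A) :
    ∀ x : A, (∀ a : A, a ^ p ≠ x) → x ∈ Subgroup.closure (S : Set A) →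
      ∃ s ∈ S, s ∈ Subgroup.closure (insert x ((S.erase s : Finset A) : Set A)) := by
  induction S using Finset.induction_on with
  | empty =>
    intro x hx h
    rw [Finset.coe_empty, Subgroup.closure_empty, Subgroup.mem_bot] at h
    exact absurd (by rw [one_pow, h]) (hx 1)
  | @insert s S hs ih =>
    intro x hx h
    rw [Finset.coe_insert, Set.insert_eq, Subgroup.closure_union, Subgroup.mem_sup] at h
    obtain ⟨_, hn, y, hy, rfl⟩ := h
    obtain ⟨n, rfl⟩ := Subgroup.mem_closure_singleton.1 hn
    by_cases hpn : (p : ℤ) ∣ n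
    · obtain ⟨m, rfl⟩ := hpn
      have hy' : ∀ a : A, a ^ p ≠ y := fun a ha => hx (s ^ m * a) (by
        rw [mul_pow, ha, ← zpow_natCast, ← zpow_mul, mul_comm m])
      obtain ⟨t, ht, htmem⟩ := ih y hy' hy
      refine ⟨t, Finset.mem_insert_of_mem ht, ?_⟩
      have hst : s ≠ t := fun h => hs (h ▸ ht)
      refine (Subgroup.closure_le _).2 ?_ htmem
      refine Set.insert_subset ?_ fun a ha => Subgroup.subset_closure (Or.inr ?_)
      · have h1 : s ∈ Subgroup.closure (insert (s ^ ((p : ℤ) * m) * y)
            (((insert s S).erase t : Finset A) : Set A)) :=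
          Subgroup.subset_closure (Or.inr (Finset.mem_erase.2 ⟨hst, Finset.mem_insert_self _ _⟩))
        have h2 := mul_mem (inv_mem (zpow_mem h1 ((p : ℤ) * m)))
          (Subgroup.subset_closure (Set.mem_insert _ _) : (s ^ ((p : ℤ) * m) * y) ∈
            Subgroup.closure (insert (s ^ ((p : ℤ) * m) * y)
              (((insert s S).erase t : Finset A) : Set A)))
        rwa [inv_mul_cancel_left] at h2
      · rw [Finset.mem_coe, Finset.mem_erase] at ha ⊢
        exact ⟨ha.1, Finset.mem_insert_of_mem ha.2⟩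
    · refine ⟨s, Finset.mem_insert_self _ _, ?_⟩
      rw [Finset.erase_insert hs]
      set K := Subgroup.closure (insert (s ^ n * y) (S : Set A))
      have h1 : s ^ n ∈ K := by
        have h2 := mul_mem (Subgroup.subset_closure (Set.mem_insert (s ^ n * y) (S : Set A)))
          (inv_mem ((Subgroup.closure_mono (Set.subset_insert (s ^ n * y) (S : Set A))) hy))
        rwa [mul_inv_cancel_right] at h2
      obtain ⟨k, hk⟩ := hA s
      obtain ⟨a, c, hac⟩ := (IsCoprime.pow_right (n := k)
        ((Nat.prime_iff_prime_int.1 (Fact.out : p.Prime)).coprime_iff_not_dvd.2 hpn).symm)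
      have h3 : s = (s ^ n) ^ a := by
        rw [← zpow_mul]
        calc s = s ^ (a * n + c * (p : ℤ) ^ k) := by rw [hac, zpow_one]
          _ = s ^ (n * a) := by
              rw [zpow_add, mul_comm c, zpow_mul s ((p : ℤ) ^ k), ← Nat.cast_pow, zpow_natCast, hk,
                one_zpow, mul_one, mul_comm]
      rw [h3]
      exact zpow_mem h1 a

/-- An element of largest order can replace one of the generators. -/
theorem exists_exchange (hA : IsPGroup p A) {u : A} (hu : orderOf u = Monoid.exponent A)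
    {S : Finset A} (hS : Subgroup.closure (S : Set A) = ⊤) :
    ∃ T : Finset A, T.card ≤ S.card - 1 ∧ Subgroup.closure (insert u (T : Set A)) = ⊤ := by
  have hpp : p.Prime := Fact.out
  by_cases hu1 : u = 1
  · refine ⟨∅, by simp, eq_top_iff.2 fun x _ => ?_⟩
    have hx : x = 1 := by
      have h := Monoid.pow_exponent_eq_one x
      rwa [← hu, hu1, orderOf_one, pow_one] at h
    exact hx ▸ one_mem _
  have hnp : ∀ a : A, a ^ p ≠ u := by
    intro a ha
    obtain ⟨k, hk⟩ := IsPGroup.iff_orderOf.1 hA a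
    have h1 := Monoid.order_dvd_exponent a
    rw [← hu, ← ha] at h1
    rcases k with _ | k
    · rw [pow_zero, orderOf_eq_one_iff] at hk
      exact hu1 (by rw [← ha, hk, one_pow])
    · rw [orderOf_pow' _ hpp.ne_zero, hk] at h1
      rw [Nat.gcd_eq_right (dvd_pow_self p k.succ_ne_zero), pow_succ,
        Nat.mul_div_cancel _ hpp.pos] at h1
      have h2 := Nat.le_of_dvd (pow_pos hpp.pos k) h1
      have h3 : 0 < p ^ k := pow_pos hpp.pos k
      nlinarith [hpp.two_le]
  obtain ⟨s, hs, hmem⟩ := exists_exchange_mem hA S u hnp (hS ▸ Subgroup.mem_top u)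
  refine ⟨S.erase s, (Finset.card_erase_of_mem hs).le, top_le_iff.1 (hS ▸ ?_)⟩
  refine (Subgroup.closure_le _).2 fun a ha => ?_
  by_cases has : a = s
  · exact has ▸ hmem
  · exact Subgroup.subset_closure (Or.inr (Finset.mem_erase.2 ⟨has, ha⟩))

end Exchange

variable {p : ℕ} [Fact p.Prime] {M : Ideal AlgInt} [M.IsPrime]

/-- A pair, an element of largest order and the further generators. -/
theorem exists_setup (hM : IsPModular p M) {G : Type u} [Group G] [Fintype G]
    {B : Set (IrrCharacter G)} (hB : IsPBlock M B) {D : Subgroup G}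
    (hD : IsDefectGroup p M B D) (hab : ∀ x ∈ D, ∀ y ∈ D, x * y = y * x) :
    ∃ (e : Set (IrrCharacter (Subgroup.centralizer (D : Set G)))) (u : D) (T : Finset D),
      IsMaximalBrauerPair p M B D e ∧ orderOf u = Monoid.exponent D ∧
      T.card ≤ Group.rank D - 1 ∧ Subgroup.closure (insert u (T : Set D)) = ⊤ := by
  obtain ⟨e, he⟩ := NilBlock.exists_maximal hM hB hD
  letI : CommGroup D :=
    { (inferInstance : Group D) with mul_comm := fun x y => Subtype.ext (hab _ x.2 _ y.2) }
  obtain ⟨u, hu⟩ := Monoid.exists_orderOf_eq_exponent (G := D) Monoid.ExponentExists.of_finite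
  obtain ⟨S, hS, hcl⟩ := Group.rank_spec D
  obtain ⟨T, hT, hgen⟩ := exists_exchange he.1.1.1 hu hcl
  exact ⟨e, u, T, he, hu, hS ▸ hT, hgen⟩

/-- `k ≤ p ^ d` for an abelian defect group with two generators. -/
theorem card_le_of_rank_le_two (hM : IsPModular p M) {G : Type u} [Group G] [Finite G]
    {B : Set (IrrCharacter G)} (hB : IsPBlock M B) {D : Subgroup G}
    (hD : IsDefectGroup p M B D) (hab : ∀ x ∈ D, ∀ y ∈ D, x * y = y * x)
    (hr : Group.rank D ≤ 2) : Nat.card B ≤ p ^ blockDefect p B := by
  cases nonempty_fintype G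
  obtain ⟨e, u, T, he, -, hT, hgen⟩ := exists_setup hM hB hD hab
  obtain ⟨w, hw⟩ : ∃ w : D, Subgroup.closure ({u, w} : Set D) = ⊤ := by
    rcases Finset.card_le_one_iff_subset_singleton.1 (show T.card ≤ 1 by omega) with ⟨w, hw⟩
    exact ⟨w, top_le_iff.1 (hgen ▸ Subgroup.closure_mono (Set.insert_subset_insert
      ((Finset.coe_subset.2 hw).trans (Finset.coe_singleton w).le)))⟩
  letI : CommGroup D :=
    { (inferInstance : Group D) with mul_comm := fun x y => Subtype.ext (hab _ x.2 _ y.2) }
  refine card_le_of_gen hM (b := ⟨D, e⟩) he hab u.2 w.2 fun x hx => ?_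
  obtain ⟨a, c, hac⟩ := Subgroup.mem_closure_pair.1 (hw ▸ Subgroup.mem_top (⟨x, hx⟩ : D))
  exact ⟨a, c, by simpa using congrArg Subtype.val hac⟩

/-- `k ^ 3 ≤ p ^ (5 d)` for an abelian defect group with three generators. -/
theorem card_pow_three_le (hM : IsPModular p M) {G : Type u} [Group G] [Finite G]
    {B : Set (IrrCharacter G)} (hB : IsPBlock M B) {D : Subgroup G}
    (hD : IsDefectGroup p M B D) (hab : ∀ x ∈ D, ∀ y ∈ D, x * y = y * x)
    (hr : Group.rank D ≤ 3) : Nat.card B ^ 3 ≤ p ^ (5 * blockDefect p B) := by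
  cases nonempty_fintype G
  have hp := hM.1
  obtain ⟨e, u, T, he, hu, hT, hgen⟩ := exists_setup hM hB hD hab
  obtain ⟨j, hj⟩ := IsPGroup.iff_orderOf.1 (show IsPGroup p D from he.1.1.1) u
  obtain ⟨H, _, _, bq, P, π, hbq, hP, hPe, hker, hdd, hlk, hkl⟩ :=
    exists_quotient_subsection hM (b := ⟨D, e⟩) he hab u.2 (j := j)
      (by rw [Subgroup.orderOf_coe]; exact hj)
  have hDC : D ≤ Subgroup.centralizer
      ((NilBlock.bu p M (⟨D, e⟩ : BrauerPairIdx G) (u : G)).1 : Set G) := by
    intro x hx
    rw [NilBlock.centralizer_bu, Subgroup.mem_centralizer_singleton_iff]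
    exact hab x hx _ u.2
  let φ : D →* H := π.comp (Subgroup.inclusion hDC)
  have hrange : φ.range = P := by
    rw [hPe, MonoidHom.range_comp, Subgroup.inclusion_range]
  have habP : ∀ x ∈ P, ∀ y ∈ P, x * y = y * x := by
    rw [← hrange]
    rintro _ ⟨x, rfl⟩ _ ⟨y, rfl⟩
    rw [← map_mul, ← map_mul]
    exact congrArg φ (Subtype.ext (hab _ x.2 _ y.2))
  have hPcl : Subgroup.closure ((T.image φ : Finset H) : Set H) = P := by
    rw [Finset.coe_image, ← MonoidHom.map_closure, ← hrange, MonoidHom.range_eq_map, ← hgen,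
      MonoidHom.map_closure, MonoidHom.map_closure, Set.image_insert_eq,
      show φ u = 1 from hker _ rfl, Subgroup.closure_insert_one]
  have hrP : Group.rank P ≤ 2 := by
    rw [Group.rank_congr (MulEquiv.subgroupCongr hPcl.symm)]
    exact (Subgroup.rank_closure_finset_le_card _).trans ((Finset.card_image_le).trans (by omega))
  have hkq := card_le_of_rank_le_two hM hbq hP habP hrP
  have hk : Nat.card B ≤ p ^ (blockDefect p B + blockDefect p bq) :=
    hkl.trans ((Nat.mul_le_mul_left _ (hlk.trans hkq)).trans (pow_add _ _ _).ge)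
  have h3 : blockDefect p B ≤ 3 * j := by
    letI : CommGroup D :=
      { (inferInstance : Group D) with mul_comm := fun x y => Subtype.ext (hab _ x.2 _ y.2) }
    refine (Nat.pow_dvd_pow_iff_le_right hp.one_lt).1 ?_
    rw [← BrauerFeit.card_defectGroup hM hB hD]
    refine (card_dvd_exponent_pow_rank D).trans ?_
    rw [← hu, hj, ← pow_mul]
    exact pow_dvd_pow p (by rw [mul_comm]; exact Nat.mul_le_mul_right j hr)
  refine (Nat.pow_le_pow_left hk 3).trans ?_
  rw [← pow_mul]
  exact Nat.pow_le_pow_right hp.pos (by omega)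

end Cfsg.Agent.Lib.DefectBound
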